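import Cfsg.Agent.TwoRegSizes.Count
import Cfsg.Agent.BlockApp.Kazarin

/-!
Exactly one prime different from `p` divides the class size: impossible.
-/

set_option autoImplicit false
set_option linter.unusedSectionVars false

namespace Cfsg.Agent.TwoRegSizes

open Subgroup
open Cfsg.Agent.TwoClassSizes.Normal (mem_cent self_mem_cent mem_cent_symm mem_cent_conj
  conj_mem_center orderOf_conj)

universe u

variable {G : Type u} [Group G] [Finite G] {p m r : ℕ} {x : G}

local notation "C[" x "]" => Subgroup.centralizer ({x} : Set _)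

theorem relIndex_dvd_index' (A L : Subgroup G) [L.Normal] : A.relIndex L ∣ A.index := by
  have h1 : (A ⊓ L).relIndex A = L.relIndex (A ⊔ L) := by
    rw [inf_relIndex_left, relIndex_sup_right]
  have h2 := (relIndex_mul_relIndex (A ⊓ L) A (A ⊔ L) inf_le_left le_sup_left).trans
    (relIndex_mul_relIndex (A ⊓ L) L (A ⊔ L) inf_le_right le_sup_right).symm
  rw [h1, inf_relIndex_right, mul_comm] at h2
  rw [← Nat.eq_of_mul_eq_mul_right (Nat.pos_of_ne_zero FiniteIndex.index_ne_zero) h2]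
  exact relIndex_dvd_index_of_le le_sup_left

theorem Hyp2.exists_conj_cent (h : Hyp2 G p m) {q : ℕ} (hq : Pi0 G p q) (hqm : ¬ q ∣ m) {y : G}
    (hx : Reg p x) (hxZ : x ∉ center G) (hy : Reg p y) (hyZ : y ∉ center G) :
    ∃ g : G, C[g * y * g⁻¹] = C[x] := by
  have := Fact.mk hq.1
  obtain ⟨_, ⟨Sx, rfl⟩, hxle, -, -, hxrel⟩ := h.sylow_structure hx hxZ hq
  obtain ⟨_, ⟨Sy, rfl⟩, hyle, -, -, hyrel⟩ := h.sylow_structure hy hyZ hq
  rw [Nat.factorization_eq_zero_of_not_dvd hqm, pow_zero, relIndex_eq_one] at hxrel hyrel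
  obtain ⟨g, hg⟩ := MulAction.exists_smul_eq G Sy Sx
  obtain ⟨w, hw, hwZ⟩ := h.exists_mem_part hy hyZ hq
  refine ⟨g, ?_⟩
  have h1 : g * w * g⁻¹ ∈ (Sx : Subgroup G) := by
    rw [← hg, Sylow.coe_subgroup_smul]
    exact ⟨w, hyle hw, rfl⟩
  rw [← h.cent_part hx hxZ hq.1 hq.2.1 (hxrel h1) (fun hz => hwZ (conj_mem_center.1 hz)),
    ← cent_map_conj, ← cent_map_conj, h.cent_part hy hyZ hq.1 hq.2.1 hw hwZ]

theorem Hyp2.false_of_one_prime (h : Hyp2 G p m) (hx : Reg p x) (hxZ : x ∉ center G)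
    (hr : r.Prime) (hrp : r ≠ p) (hd : r ∣ m) (hT : ∀ s, s.Prime → s ≠ p → s ∣ m → s = r) :
    False := by
  have := Fact.mk hr
  have := Fact.mk h.prime
  obtain ⟨q, hqr, hq⟩ := h.two r
  have := Fact.mk hq.1
  have hqm : ¬ q ∣ m := fun hd' => hqr (hT q hq.1 hq.2.1 hd')
  obtain ⟨_, ⟨R, rfl⟩, hPR, hRN, u, huR, huC, -⟩ := h.exists_outside hx hxZ hr hrp hd
  have hr0 := h.toHyp.pi0_of_dvd hx hxZ hr hrp hd
  obtain ⟨z, hz, hzZ, -, hfix⟩ := h.exists_fixed hx hxZ hr0 R.isPGroup' hRN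
  have hCz : C[z] = C[x] := h.cent_part hx hxZ hr hrp hz hzZ
  set π := QuotientGroup.mk' (center G) with hπ
  have hker : ∀ a : G, π a = 1 ↔ a ∈ center G := fun a => QuotientGroup.eq_one_iff a
  set K := (centralizer {π z}).comap π with hK
  have hCK : C[x] ≤ K := fun g hg => by
    rw [hK, Subgroup.mem_comap, mem_centralizer_singleton_iff, ← map_mul, ← map_mul]
    rw [← hCz] at hg
    exact congrArg π (mem_cent.1 hg)
  have hRK : (R : Subgroup G) ≤ K := fun g hg => by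
    rw [hK, Subgroup.mem_comap, mem_centralizer_singleton_iff, ← mul_inv_eq_iff_eq_mul,
      ← map_mul, ← map_inv, ← map_mul, ← mul_inv_eq_one, ← map_inv, ← map_mul, hker]
    exact hfix g hg
  have hKN : K ≤ normalizer (C[x] : Set G) := fun g hg => by
    have hz' := (h.mem_part hx hxZ hr hrp).1 hz
    refine h.mem_normalizer hx hxZ (hz'.2.reg hr h.prime hrp) hzZ hz'.1 ?_
    rw [hK, Subgroup.mem_comap, mem_centralizer_singleton_iff, ← mul_inv_eq_iff_eq_mul,
      ← map_mul, ← map_inv, ← map_mul, ← mul_inv_eq_one, ← map_inv, ← map_mul, hker] at hg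
    have := mul_mem (center_le_centralizer ({x} : Set G) hg) hz'.1
    rwa [inv_mul_cancel_right] at this
  obtain ⟨a, ha⟩ : ∃ a, K.index = p ^ a := ⟨_, Nat.eq_prime_pow_of_unique_prime_dvd
    K.index_ne_zero_of_finite fun {s} hs hsd => by
      by_contra hsp
      have hsr : s = r := hT s hs hsp (hsd.trans (h.index_eq x hx hxZ ▸ index_dvd_of_le hCK))
      exact R.not_dvd_index ((hsr ▸ hsd).trans (index_dvd_of_le hRK))⟩
  -- modulo the preimage of the `p`-core of `G / Z`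
  set P₀ := Cfsg.pCore p (G ⧸ center G) with hP₀
  set φ := (QuotientGroup.mk' P₀).comp π with hφ
  have hφs : Function.Surjective φ :=
    (QuotientGroup.mk'_surjective _).comp (QuotientGroup.mk'_surjective _)
  have hφker : ∀ g : G, φ g = 1 ↔ π g ∈ P₀ := fun g => QuotientGroup.eq_one_iff (π g)
  have hpow : ∀ g : G, φ g = 1 → ∃ k, g ^ p ^ k ∈ center G := fun g hg => by
    obtain ⟨k, hk⟩ := Core.pCore_isPGroup (p := p) (G := G ⧸ center G) ⟨π g, (hφker g).1 hg⟩
    exact ⟨k, (hker _).1 (by rw [map_pow]; exact congrArg Subtype.val hk)⟩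
  obtain ⟨k, hk⟩ := ((h.mem_part hx hxZ hr hrp).1 hz).2
  obtain ⟨j, -, hj⟩ := (Nat.dvd_prime_pow hr).1 ((orderOf_map_dvd φ z).trans hk)
  have hcl : (centralizer ({φ z} : Set ((G ⧸ center G) ⧸ P₀))).index ∣ p ^ a := by
    refine (index_dvd_of_le ?_).trans (ha ▸ index_map_dvd K hφs)
    rintro _ ⟨g, hg, rfl⟩
    rw [mem_centralizer_singleton_iff]
    have hg' := mem_centralizer_singleton_iff.1 (Subgroup.mem_comap.1 hg)
    show QuotientGroup.mk' P₀ (π g) * QuotientGroup.mk' P₀ (π z) = _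
    rw [← map_mul, hg', map_mul]
    rfl
  obtain ⟨b, -, hb⟩ := (Nat.dvd_prime_pow h.prime).1 hcl
  have hzL : φ z ∈ Cfsg.pCore r ((G ⧸ center G) ⧸ P₀) :=
    Kazarin.mem_pCore (Ne.symm hrp) (φ z) (Core.pCore_quotient_eq_bot (p := p)) hj hb
  set L := (Cfsg.pCore r ((G ⧸ center G) ⧸ P₀)).comap φ with hL
  have : L.Normal := Normal.comap inferInstance φ
  by_cases hcase : (R : Subgroup G) ⊓ L ≤ C[x]
  · -- Frattini
    set R₁ := (R : Subgroup G) ⊓ L with hR₁
    have hidx : ¬ r ∣ ((R : Subgroup G).subgroupOf L).index := fun hd' =>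
      R.not_dvd_index (hd'.trans (relIndex_dvd_index' (R : Subgroup G) L))
    have hfr := Sylow.normalizer_sup_eq_top
      ((R.isPGroup'.comap_subtype (K := L)).toSylow hidx)
    change normalizer ((((R : Subgroup G).subgroupOf L).map L.subtype : Subgroup G) : Set G) ⊔ L = ⊤ at hfr
    rw [subgroupOf_map_subtype, ← hR₁] at hfr
    have hLle : L ≤ R₁ ⊔ φ.ker := fun l hl => by
      have h1 := Core.pCore_le_sylow (R.mapSurjective hφs) (Subgroup.mem_comap.1 hl)
      rw [Sylow.coe_mapSurjective] at h1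
      obtain ⟨ρ, hρ, hρl⟩ := h1
      have hρL : ρ ∈ L := Subgroup.mem_comap.2 (hρl ▸ Subgroup.mem_comap.1 hl)
      have : ρ * (ρ⁻¹ * l) = l := mul_inv_cancel_left ρ l
      rw [← this]
      refine mul_mem (mem_sup_left ⟨hρ, hρL⟩) (mem_sup_right ?_)
      rw [MonoidHom.mem_ker, map_mul, map_inv, hρl, inv_mul_cancel]
    have hzR₁ : z ∈ R₁ := ⟨hPR hz, hzL⟩
    have hNle : normalizer (R₁ : Set G) ≤ normalizer (C[x] : Set G) := fun g hg =>
      h.mem_normalizer hx hxZ (((h.mem_part hx hxZ hr hrp).1 hz).2.reg hr h.prime hrp) hzZ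
        (h.part_le hx hxZ hr hrp hz) (hcase ((mem_normalizer_iff.1 hg z).1 hzR₁))
    have htop : φ.ker ⊔ normalizer (C[x] : Set G) = ⊤ := by
      rw [← top_le_iff, ← hfr]
      refine sup_le (hNle.trans le_sup_right) (hLle.trans (sup_le ?_ le_sup_left))
      exact (le_normalizer.trans hNle).trans le_sup_right
    have hu' : Reg p u := (pel_of_mem R.isPGroup' huR).reg hr h.prime hrp
    have huZ : u ∉ center G := fun hz' => huC (center_le_centralizer _ hz')
    obtain ⟨g, hg⟩ := h.exists_conj_cent hq hqm hu' huZ hx hxZ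
    obtain ⟨μ, hμ, n, hn, rfl⟩ := (mem_sup_of_normal_left).1 (htop ▸ mem_top g :
      g ∈ φ.ker ⊔ normalizer (C[x] : Set G))
    have hnx : C[n * x * n⁻¹] = C[x] := by
      refine h.cent_eq hx hxZ (hx.conj n) (fun hz' => hxZ (conj_mem_center.1 hz')) ?_
      exact (mem_normalizer_iff.1 hn x).1 (self_mem_cent x)
    set c := μ⁻¹ * u * μ with hc
    have hcx : c ∈ C[x] := by
      have h1 : μ * c * μ⁻¹ ∈ C[μ * (n * x * n⁻¹) * μ⁻¹] := by
        rw [show μ * (n * x * n⁻¹) * μ⁻¹ = μ * n * x * (μ * n)⁻¹ by group, hg,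
          show μ * c * μ⁻¹ = u by rw [hc]; group]
        exact self_mem_cent u
      rw [← hnx]
      exact mem_cent_conj.1 h1
    have hm : φ (u * c⁻¹) = 1 := by
      rw [MonoidHom.mem_ker] at hμ
      rw [hc]
      simp only [map_mul, map_inv, hμ]
      group
    obtain ⟨k, hk⟩ := hpow _ hm
    set N := normalizer (C[x] : Set G) with hN
    have : ((C[x]).subgroupOf N).Normal := normal_in_normalizer
    set ψ := QuotientGroup.mk' ((C[x]).subgroupOf N)
    have hψ : ∀ a : N, ψ a = 1 ↔ (a : G) ∈ C[x] := fun a =>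
      (QuotientGroup.eq_one_iff a).trans mem_subgroupOf
    have hU : ψ ⟨u, hRN huR⟩ ^ p ^ k = 1 := by
      have e : (⟨u, hRN huR⟩ : N) =
          ⟨u * c⁻¹, mul_mem (hRN huR) (inv_mem (le_normalizer hcx))⟩ * ⟨c, le_normalizer hcx⟩ :=
        Subtype.ext (inv_mul_cancel_right u c).symm
      rw [e, map_mul, (hψ ⟨c, le_normalizer hcx⟩).2 hcx, mul_one, ← map_pow, hψ, coe_pow]
      exact center_le_centralizer _ hk
    obtain ⟨i, hi⟩ := pel_of_mem R.isPGroup' huR
    have hU1 : ψ ⟨u, hRN huR⟩ = 1 := orderOf_eq_one_iff.1 <| Nat.eq_one_of_dvd_coprimes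
      (((Nat.coprime_primes hr h.prime).2 hrp).pow i k)
      ((orderOf_map_dvd ψ _).trans (by rwa [Subgroup.orderOf_mk]))
      (orderOf_dvd_of_pow_eq_one hU)
    exact huC ((hψ _).1 hU1)
  · obtain ⟨v, ⟨hvR, hvL⟩, hvC⟩ := SetLike.not_le_iff_exists.1 hcase
    obtain ⟨y, hy, hyZ⟩ := h.exists_mem_part hx hxZ hq
    set c := v * y * v⁻¹ * y⁻¹ with hc
    have hcQ : c ∈ part q x :=
      mul_mem (h.conj_mem_part hx hxZ hq.1 hq.2.1 (hRN hvR) hy) (inv_mem hy)
    have hcL : c ∈ L := by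
      rw [hc, show v * y * v⁻¹ * y⁻¹ = v * (y * v⁻¹ * y⁻¹) by group]
      exact mul_mem hvL ((inferInstance : L.Normal).conj_mem _ (inv_mem hvL) y)
    have hcq := ((h.mem_part hx hxZ hq.1 hq.2.1).1 hcQ).2
    have hc1 : φ c = 1 := by
      obtain ⟨i, hi⟩ := hcq
      obtain ⟨l, hl⟩ := pel_of_mem Core.pCore_isPGroup (Subgroup.mem_comap.1 hcL)
      exact orderOf_eq_one_iff.1 (Nat.eq_one_of_dvd_coprimes
        (((Nat.coprime_primes hq.1 hr).2 hqr).pow i l) ((orderOf_map_dvd φ c).trans hi) hl)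
    obtain ⟨k, hk⟩ := hpow c hc1
    have hcZ : c ∈ center G := by
      obtain ⟨i, hi⟩ := hcq
      obtain ⟨l, hl⟩ := exists_pow_eq_self_of_coprime (x := c) (n := p ^ k)
        ((((Nat.coprime_primes h.prime hq.1).2 (Ne.symm hq.2.1)).pow k i).coprime_dvd_right hi)
      exact hl ▸ pow_mem hk l
    have hvy : Commute v y := commute_of_conj_eq (c := c) (mem_center_iff.1 hcZ v).symm
      (by rw [hc]; group) ((pel_of_mem R.isPGroup' hvR).coprime hr hq.1 (Ne.symm hqr) hcq)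
    refine hvC ?_
    rw [← h.cent_part hx hxZ hq.1 hq.2.1 hy hyZ]
    exact mem_cent.2 hvy.eq
end Cfsg.Agent.TwoRegSizes
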