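import Mathlib

/-!
An elementary abelian group with an automorphism of order `r` fixing at most `r` points and an
automorphism of prime order `s` conjugate to all its nontrivial powers.
-/

set_option autoImplicit false

namespace Cfsg.Agent.TwoRegSizes

open Polynomial Module

section Kernel

variable {K V : Type*} [Field K] [AddCommGroup V] [Module K V] [FiniteDimensional K V]

theorem finrank_ker_pow_le (d : Module.End K V) (h : finrank K (LinearMap.ker d) ≤ 1) :
    ∀ k : ℕ, finrank K (LinearMap.ker (d ^ k)) ≤ k := by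
  intro k
  induction k with
  | zero =>
    rw [pow_zero, show LinearMap.ker (1 : Module.End K V) = ⊥ from LinearMap.ker_id, finrank_bot]
  | succ k ih =>
    set A := LinearMap.ker (d ^ (k + 1))
    let φ : A →ₗ[K] V := d.comp A.subtype
    have h1 := LinearMap.finrank_range_add_finrank_ker φ
    have h2 : finrank K (LinearMap.range φ) ≤ k := by
      refine le_trans (Submodule.finrank_mono ?_) ih
      rintro _ ⟨⟨a, ha⟩, rfl⟩
      rw [LinearMap.mem_ker] at ha ⊢
      rw [pow_succ] at ha
      exact ha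
    have h3 : finrank K (LinearMap.ker φ) ≤ 1 := by
      refine le_trans ?_ h
      rw [← Submodule.finrank_map_subtype_eq A (LinearMap.ker φ)]
      refine Submodule.finrank_mono ?_
      rintro _ ⟨a, ha, rfl⟩
      exact LinearMap.mem_ker.2 (LinearMap.mem_ker.1 ha : φ a = 0)
    omega

end Kernel

section Roots

variable {K : Type*} [Field K]

theorem sub_one_le_finrank {V : Type*} [AddCommGroup V] [Module K V] [FiniteDimensional K V]
    {s : ℕ} (hs : s.Prime) (hsK : (s : K) ≠ 0) (g : Module.End K V) (hg : g ^ s = 1) (hg1 : g ≠ 1)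
    (hl : ∀ l : ℕ, 0 < l → l < s → aeval (g ^ l) (minpoly K g) = 0) :
    s - 1 ≤ finrank K V := by
  set μ := minpoly K g with hμ
  have hint : IsIntegral K g := Algebra.IsIntegral.isIntegral g
  have hdvd : μ ∣ X ^ s - C 1 := minpoly.dvd K g (by simp [hg])
  have hsep : μ.Separable := (separable_X_pow_sub_C 1 hsK one_ne_zero).of_dvd hdvd
  let L := AlgebraicClosure K
  obtain ⟨ζ, hζ, hζ1⟩ : ∃ ζ ∈ μ.aroots L, ζ ≠ 1 := by
    by_contra hall
    push Not at hall
    have hcard : Multiset.card (μ.aroots L) = μ.natDegree := by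
      rw [aroots_def, IsAlgClosed.card_roots_eq_natDegree, natDegree_map]
    have hnd : (μ.aroots L).Nodup := by
      rw [aroots_def]
      exact nodup_roots hsep.map
    have hle : μ.natDegree ≤ 1 := by
      rw [← hcard]
      classical
      rw [← Multiset.toFinset_card_of_nodup hnd]
      exact Finset.card_le_one.2 fun a ha b hb => (hall a (Multiset.mem_toFinset.1 ha)).trans
        (hall b (Multiset.mem_toFinset.1 hb)).symm
    have hmon : μ.Monic := minpoly.monic hint
    rcases Nat.le_one_iff_eq_zero_or_eq_one.1 hle with e | e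
    · have := hmon.natDegree_eq_zero.1 e
      have h0 : aeval g μ = 0 := minpoly.aeval K g
      rw [this, map_one] at h0
      exact hg1 ((eq_of_zero_eq_one h0.symm g 1))
    · obtain ⟨a, ha⟩ : ∃ a, μ = X + C a := ⟨_, hmon.eq_X_add_C e⟩
      have hroot : (1 : L) ∈ μ.aroots L := by
        obtain ⟨b, hb⟩ := Multiset.card_pos_iff_exists_mem.1 (by omega : 0 < (μ.aroots L).card)
        exact hall b hb ▸ hb
      rw [mem_aroots, ha, map_add, aeval_X, aeval_C] at hroot
      have h0 : aeval g μ = 0 := minpoly.aeval K g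
      have ha1 : a = -1 := (algebraMap K L).injective (by
        rw [map_neg, map_one]; exact eq_neg_of_add_eq_zero_right hroot.2)
      rw [ha, ha1, map_add, aeval_X, aeval_C, map_neg, map_one, ← sub_eq_add_neg, sub_eq_zero] at h0
      exact hg1 h0
  rw [mem_aroots] at hζ
  have hζs : ζ ^ s = 1 := by
    have := aeval_eq_zero_of_dvd_aeval_eq_zero hdvd hζ.2
    simpa [sub_eq_zero] using this
  have hord : orderOf ζ = s := by
    have := Fact.mk hs
    exact orderOf_eq_prime hζs hζ1
  classical
  have hsub : (Finset.Ico 1 s).image (fun l => ζ ^ l) ⊆ (μ.aroots L).toFinset := by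
    intro y hy
    obtain ⟨l, hlI, rfl⟩ := Finset.mem_image.1 hy
    obtain ⟨hl1, hl2⟩ := Finset.mem_Ico.1 hlI
    rw [Multiset.mem_toFinset, mem_aroots]
    refine ⟨hζ.1, ?_⟩
    have h1 : μ ∣ μ.comp (X ^ l) := by
      refine minpoly.dvd K g ?_
      rw [aeval_comp, map_pow, aeval_X]
      exact hl l hl1 hl2
    have h2 := aeval_eq_zero_of_dvd_aeval_eq_zero h1 hζ.2
    rwa [aeval_comp, map_pow, aeval_X] at h2
  have hinj : Set.InjOn (fun l => ζ ^ l) (Finset.Ico 1 s : Set ℕ) := fun a ha b hb e => by
    rw [Finset.coe_Ico, Set.mem_Ico] at ha hb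
    exact pow_injOn_Iio_orderOf (x := ζ) (by rw [Set.mem_Iio, hord]; exact ha.2)
      (by rw [Set.mem_Iio, hord]; exact hb.2) e
  have hle1 : s - 1 ≤ μ.natDegree := by
    calc s - 1 = ((Finset.Ico 1 s).image (fun l => ζ ^ l)).card := by
          rw [Finset.card_image_of_injOn hinj, Nat.card_Ico]
      _ ≤ (μ.aroots L).toFinset.card := Finset.card_le_card hsub
      _ ≤ Multiset.card (μ.aroots L) := Multiset.toFinset_card_le _
      _ ≤ (μ.map (algebraMap K L)).natDegree := by rw [aroots_def]; exact card_roots' _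
      _ = μ.natDegree := natDegree_map _
  refine hle1.trans ?_
  rw [← g.charpoly_natDegree]
  exact natDegree_le_of_dvd g.minpoly_dvd_charpoly g.charpoly_monic.ne_zero

end Roots

universe u

/-- The two bounds on the order, additive form. -/
theorem bounds_add {r s : ℕ} {V : Type u} [AddCommGroup V] [Module (ZMod r) V] [Finite V]
    {M : Type*} [Group M] (Φ₀ : M →* AddMonoid.End V) (hr : r.Prime) (hs : s.Prime)
    (hrs : r ≠ s) (f g : M) (hf : f ^ r = 1)
    (hfix : Nat.card {v : V // Φ₀ f v = v} ≤ r) (hg : g ^ s = 1) (hg1 : Φ₀ g ≠ 1)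
    (hl : ∀ l : ℕ, 0 < l → l < s → ∃ t : M, t * g * t⁻¹ = g ^ l) :
    ∃ d : ℕ, Nat.card V = r ^ d ∧ d ≤ r ∧ s - 1 ≤ d := by
  have := Fact.mk hr
  have : Module.Finite (ZMod r) V := Module.Finite.of_finite
  let Φ : M →* Module.End (ZMod r) V :=
    { toFun := fun a => AddMonoidHom.toZModLinearMap r (Φ₀ a)
      map_one' := LinearMap.ext fun v => by
        show Φ₀ 1 v = v
        rw [map_one]; rfl
      map_mul' := fun a b => LinearMap.ext fun v => by
        show Φ₀ (a * b) v = Φ₀ a (Φ₀ b v)
        rw [map_mul]; rfl }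
  have hΦ : ∀ (a : M) (v : V), Φ a v = Φ₀ a v := fun a v => rfl
  refine ⟨finrank (ZMod r) V, ?_, ?_, ?_⟩
  · show Nat.card V = _
    have h1 := Module.natCard_eq_pow_finrank (K := ZMod r) (V := V)
    rwa [Nat.card_zmod] at h1
  · set d := Φ f - 1 with hd
    have hker : finrank (ZMod r) (LinearMap.ker d) ≤ 1 := by
      have h1 : Nat.card (LinearMap.ker d) ≤ r := by
        refine le_trans (le_of_eq (Nat.card_congr (Equiv.subtypeEquivRight fun v => ?_))) hfix
        rw [LinearMap.mem_ker, hd, LinearMap.sub_apply, sub_eq_zero]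
        exact Iff.rfl
      rw [Module.natCard_eq_pow_finrank (K := ZMod r), Nat.card_zmod] at h1
      exact (Nat.pow_le_pow_iff_right hr.one_lt).1 (h1.trans_eq (pow_one r).symm)
    have hzero : d ^ r = 0 := by
      have h1 : ((X : (ZMod r)[X]) - 1) ^ r = X ^ r - 1 := by rw [sub_pow_char, one_pow]
      have h2 := congrArg (aeval (Φ f)) h1
      rw [map_pow, map_sub, map_sub, map_pow, aeval_X, map_one, ← map_pow, hf, map_one, sub_self]
        at h2
      exact h2
    have := finrank_ker_pow_le d hker r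
    rwa [hzero, LinearMap.ker_zero, finrank_top] at this
  · refine sub_one_le_finrank hs (fun e => hrs ?_) (Φ g) (by rw [← map_pow, hg, map_one])
      (fun e => hg1 ?_) fun l hl1 hl2 => ?_
    · rw [ZMod.natCast_eq_zero_iff] at e
      exact (Nat.prime_dvd_prime_iff_eq hr hs).1 e
    · exact AddMonoidHom.ext fun v => (hΦ g v).symm.trans (by rw [e]; rfl)
    · obtain ⟨t, ht⟩ := hl l hl1 hl2
      rw [← map_pow, ← ht, map_mul, map_mul]
      have h1 : Φ t⁻¹ * Φ t = 1 := by rw [← map_mul, inv_mul_cancel, map_one]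
      have h2 : Φ t * Φ t⁻¹ = 1 := by rw [← map_mul, mul_inv_cancel, map_one]
      let U : (Module.End (ZMod r) V)ˣ := ⟨Φ t, Φ t⁻¹, h2, h1⟩
      have key : ∀ q : (ZMod r)[X], aeval ((U : Module.End (ZMod r) V) * Φ g * ↑U⁻¹) q =
          (U : Module.End (ZMod r) V) * aeval (Φ g) q * ↑U⁻¹ := fun q => by
        induction q using Polynomial.induction_on' with
        | add a b ha hb => rw [map_add, map_add, ha, hb, mul_add, add_mul]
        | monomial n a =>
          rw [aeval_monomial, aeval_monomial, Units.conj_pow, Algebra.commutes, Algebra.commutes]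
          simp only [mul_assoc]
          rw [← Algebra.commutes a]
      have h3 := key (minpoly (ZMod r) (Φ g))
      rw [minpoly.aeval, mul_zero, zero_mul] at h3
      exact h3

/-- The two bounds on the order. -/
theorem bounds_of_auts {E : Type u} [CommGroup E] [Finite E] {r s : ℕ} (hr : r.Prime) (hs : s.Prime)
    (hrs : r ≠ s) (hexp : ∀ e : E, e ^ r = 1) (f g : MulAut E) (hf : f ^ r = 1)
    (hfix : Nat.card {e : E // f e = e} ≤ r) (hg : g ^ s = 1) (hg1 : g ≠ 1)
    (hl : ∀ l : ℕ, 0 < l → l < s → ∃ t : MulAut E, t * g * t⁻¹ = g ^ l) :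
    ∃ d : ℕ, Nat.card E = r ^ d ∧ d ≤ r ∧ s - 1 ≤ d := by
  have : Finite (Additive E) := ‹Finite E›
  let Φ₀ : MulAut E →* AddMonoid.End (Additive E) :=
    { toFun := fun a => MonoidHom.toAdditive a.toMonoidHom
      map_one' := rfl
      map_mul' := fun a b => rfl }
  let _ : Module (ZMod r) (Additive E) := AddCommGroup.zmodModule fun v => hexp (Additive.toMul v)
  obtain ⟨d, hd, h1, h2⟩ := bounds_add Φ₀ hr hs hrs f g hf
    (le_trans (le_of_eq (Nat.card_congr (Equiv.subtypeEquiv (Additive.toMul (α := E))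
      fun v => Iff.rfl))) hfix) hg
    (fun e => hg1 (MulEquiv.ext fun a => congrArg Additive.toMul
      (DFunLike.congr_fun e (Additive.ofMul a)))) hl
  exact ⟨d, (Nat.card_congr (Additive.ofMul (α := E))).trans hd, h1, h2⟩

end Cfsg.Agent.TwoRegSizes
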