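import Cfsg.Agent.TwoRegSizes.Count
import Cfsg.Agent.TwoRegSizes.Linear
import Cfsg.Agent.Coprime.Basic

/-!
Two primes different from `p` cannot divide the class size.
-/

set_option autoImplicit false
set_option linter.unusedSectionVars false
set_option maxHeartbeats 400000

namespace Cfsg.Agent.TwoRegSizes

open Subgroup
open Cfsg.Agent.TwoClassSizes.Normal (mem_cent self_mem_cent mem_cent_symm mem_cent_conj
  conj_mem_center orderOf_conj)

universe u

variable {G : Type u} [Group G] [Finite G] {p m r s : ℕ} {x : G}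

local notation "C[" x "]" => Subgroup.centralizer ({x} : Set _)
local notation "πZ" => QuotientGroup.mk' (Subgroup.center G)

/-- The elements of order dividing `r` in the image of the `r`-part of a centralizer. -/
def omega (r : ℕ) (x : G) : Subgroup (G ⧸ center G) :=
  elsPart (fun e => e ^ r = 1) ((part r x).map (QuotientGroup.mk' (center G)))

theorem mk'_eq_one_iff (g : G) : πZ g = 1 ↔ g ∈ center G := QuotientGroup.eq_one_iff g

theorem conj_mem_center_of_commute {g h : G} (hc : Commute (πZ g) (πZ h)) :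
    g * h * g⁻¹ * h⁻¹ ∈ center G := by
  rw [← mk'_eq_one_iff, map_mul, map_mul, map_mul, map_inv, map_inv, hc.eq, mul_inv_cancel_right,
    mul_inv_cancel]

namespace Hyp2

theorem commute_map_part (h : Hyp2 G p m) (hx : Reg p x) (hxZ : x ∉ center G) (hr : r.Prime)
    (hrp : r ≠ p) {e₁ e₂ : G ⧸ center G} (h1 : e₁ ∈ (part r x).map πZ)
    (h2 : e₂ ∈ (C[x]).map πZ) : Commute e₁ e₂ := by
  obtain ⟨a, ha, rfl⟩ := h1
  obtain ⟨b, hb, rfl⟩ := h2
  exact (h.commute_part hx hxZ hr hrp ha hb).map πZ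

theorem mem_omega (h : Hyp2 G p m) (hx : Reg p x) (hxZ : x ∉ center G) (hr : r.Prime)
    (hrp : r ≠ p) {e : G ⧸ center G} :
    e ∈ omega r x ↔ e ∈ (part r x).map πZ ∧ e ^ r = 1 :=
  mem_elsPart (one_pow r) (fun a ha => by rw [inv_pow, ha, inv_one])
    (fun a b hc ha hb => by rw [hc.mul_pow, ha, hb, one_mul])
    fun _ ha _ hb _ _ => h.commute_map_part hx hxZ hr hrp ha
      (map_mono (h.part_le hx hxZ hr hrp) hb)

theorem conj_mem_omega (h : Hyp2 G p m) (hx : Reg p x) (hxZ : x ∉ center G) (hr : r.Prime)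
    (hrp : r ≠ p) {g : G} (hg : g ∈ normalizer (C[x] : Set G)) {e : G ⧸ center G}
    (he : e ∈ omega r x) : πZ g * e * (πZ g)⁻¹ ∈ omega r x := by
  rw [h.mem_omega hx hxZ hr hrp] at he ⊢
  obtain ⟨⟨a, ha, rfl⟩, her⟩ := he
  refine ⟨⟨g * a * g⁻¹, h.conj_mem_part hx hxZ hr hrp hg ha, by simp⟩, ?_⟩
  rw [conj_pow, her, mul_one, mul_inv_cancel]

theorem exists_act (h : Hyp2 G p m) (hx : Reg p x) (hxZ : x ∉ center G) (hr : r.Prime)
    (hrp : r ≠ p) :
    ∃ ρ : normalizer (C[x] : Set G) →* MulAut (omega r x),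
      ∀ g e, ((ρ g e : omega r x) : G ⧸ center G) = πZ g * e * (πZ g)⁻¹ := by
  have hle : (normalizer (C[x] : Set G)).map πZ ≤ normalizer (omega r x : Set (G ⧸ center G)) := by
    rintro _ ⟨g, hg, rfl⟩
    rw [mem_normalizer_iff]
    refine fun e => ⟨fun he => h.conj_mem_omega hx hxZ hr hrp hg he, fun he => ?_⟩
    have := h.conj_mem_omega hx hxZ hr hrp (inv_mem hg) he
    simpa [map_inv, mul_assoc] using this
  exact ⟨(omega r x).normalizerMonoidHom.comp
    ((inclusion hle).comp (MonoidHom.subgroupMap πZ _)), fun g e => rfl⟩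

theorem act_eq_one_of_mem_cent (h : Hyp2 G p m) (hx : Reg p x) (hxZ : x ∉ center G) (hr : r.Prime)
    (hrp : r ≠ p) (ρ : normalizer (C[x] : Set G) →* MulAut (omega r x))
    (hρ : ∀ g e, ((ρ g e : omega r x) : G ⧸ center G) = πZ g * e * (πZ g)⁻¹)
    (g : normalizer (C[x] : Set G)) (hg : (g : G) ∈ C[x]) : ρ g = 1 := by
  refine MulEquiv.ext fun e => Subtype.ext ?_
  rw [hρ, ← (h.commute_map_part hx hxZ hr hrp ((h.mem_omega hx hxZ hr hrp).1 e.2).1
    (mem_map_of_mem πZ hg)).eq, mul_inv_cancel_right]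
  rfl

theorem mem_of_act_eq_one (h : Hyp2 G p m) (hx : Reg p x) (hxZ : x ∉ center G) (hr0 : Pi0 G p r)
    (hs : s.Prime) (hsr : s ≠ r) (ρ : normalizer (C[x] : Set G) →* MulAut (omega r x))
    (hρ : ∀ g e, ((ρ g e : omega r x) : G ⧸ center G) = πZ g * e * (πZ g)⁻¹)
    (g : normalizer (C[x] : Set G)) (hgs : PEl s (g : G)) (hg : ρ g = 1) : (g : G) ∈ C[x] := by
  obtain ⟨hr, hrp, -⟩ := id hr0
  have := Fact.mk hr
  obtain ⟨z, hz, hzZ, hzr, -⟩ := h.exists_fixed hx hxZ hr0 (IsPGroup.of_bot (p := r)) bot_le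
  have hze : πZ z ∈ omega r x := (h.mem_omega hx hxZ hr hrp).2
    ⟨mem_map_of_mem πZ hz, by rw [← map_pow, mk'_eq_one_iff]; exact hzr⟩
  have h1 := hρ g ⟨πZ z, hze⟩
  rw [hg] at h1
  change πZ z = πZ g * πZ z * (πZ g)⁻¹ at h1
  set c := (g : G) * z * (g : G)⁻¹ * z⁻¹ with hc
  have hcZ : c ∈ center G := conj_mem_center_of_commute (mul_inv_eq_iff_eq_mul.1 h1.symm)
  have hcr : PEl r c := ((h.mem_part hx hxZ hr hrp).1
    (mul_mem (h.conj_mem_part hx hxZ hr hrp g.2 hz) (inv_mem hz))).2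
  have hgz : Commute (g : G) z := commute_of_conj_eq (c := c) (mem_center_iff.1 hcZ g).symm
    (by rw [hc]; group) (hgs.coprime hs hr hsr hcr)
  have hgC : (g : G) ∈ C[z] := mem_cent.2 hgz.eq
  rwa [h.cent_part hx hxZ hr hrp hz hzZ] at hgC

theorem card_fixed_dvd (h : Hyp2 G p m) (hx : Reg p x) (hxZ : x ∉ center G) (hr : r.Prime)
    (hrp : r ≠ p) {u : G} (hu : PEl r u) (huC : u ∉ C[x]) :
    Nat.card ((part r x ⊓ (centralizer {πZ u}).comap πZ).map πZ) ∣ r := by
  have := Fact.mk hr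
  set S := part r x ⊓ (centralizer {πZ u}).comap πZ with hS
  have hu' : Reg p u := hu.reg hr h.prime hrp
  have huZ : u ∉ center G := fun hz => huC (center_le_centralizer _ hz)
  have hSN : S ≤ normalizer (C[u] : Set G) := fun v hv => by
    refine h.mem_normalizer hu' huZ hu' huZ (self_mem_cent u) ?_
    have h1 := conj_mem_center_of_commute
      (show Commute (πZ v) (πZ u) from mem_centralizer_singleton_iff.1 (Subgroup.mem_comap.1 hv.2))
    have h2 := mul_mem (center_le_centralizer ({u} : Set G) h1) (self_mem_cent u)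
    rwa [inv_mul_cancel_right] at h2
  have hSp : IsPGroup r S := (h.isPGroup_part hx hxZ hr hrp).to_le inf_le_left
  have h1 := h.relIndex_dvd hu' huZ hr hrp hSp hSN
  rw [← relIndex_ker S, QuotientGroup.ker_mk']
  refine dvd_trans ?_ h1
  rw [← inf_relIndex_right C[u] S]
  refine relIndex_dvd_of_le_left _ fun v hv => ?_
  have hvp := (h.mem_part hx hxZ hr hrp).1 hv.2.1
  exact h.central_of_mem_two hx hxZ hu' huC (hvp.2.reg hr h.prime hrp) hvp.1 hv.1

theorem fixed_mem_zpowers (h : Hyp2 G p m) (hx : Reg p x) (hxZ : x ∉ center G) (hr : r.Prime)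
    (hrp : r ≠ p) {u : G} (hu : PEl r u) (huC : u ∉ C[x]) {e₁ e₂ : G ⧸ center G}
    (h1 : e₁ ∈ (part r x).map πZ) (c1 : Commute e₁ (πZ u)) (h2 : e₂ ∈ (part r x).map πZ)
    (c2 : Commute e₂ (πZ u)) (he1 : e₁ ≠ 1) : e₂ ∈ zpowers e₁ ∧ e₁ ^ r = 1 := by
  have key : ∀ e ∈ (part r x).map πZ, Commute e (πZ u) →
      e ∈ (part r x ⊓ (centralizer {πZ u}).comap πZ).map πZ := by
    rintro _ ⟨v, hv, rfl⟩ hc
    exact ⟨v, ⟨hv, Subgroup.mem_comap.2 (mem_centralizer_singleton_iff.2 hc.eq)⟩, rfl⟩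
  have hd := h.card_fixed_dvd hx hxZ hr hrp hu huC
  set T := (part r x ⊓ (centralizer {πZ u}).comap πZ).map πZ
  have hle : zpowers e₁ ≤ T := zpowers_le.2 (key e₁ h1 c1)
  rcases (Nat.dvd_prime hr).1 hd with e | e
  · have := eq_bot_of_card_eq T e
    exact absurd (mem_bot.1 (this ▸ key e₁ h1 c1)) he1
  · have h3 := card_dvd_of_le hle
    rw [Nat.card_zpowers, e] at h3
    refine ⟨?_, orderOf_dvd_iff_pow_eq_one.1 h3⟩
    have h4 : zpowers e₁ = T := eq_of_le_of_card_ge hle (by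
      rw [Nat.card_zpowers, e]
      rcases (Nat.dvd_prime hr).1 h3 with e' | e'
      · exact absurd (orderOf_eq_one_iff.1 e') he1
      · exact e'.ge)
    exact h4.ge (key e₂ h2 c2)

/-- An `r`-element normalizing `⟨u⟩C(x)` for an `s`-element `u` lies in `C(x)`. -/
theorem false_of_normalizes (h : Hyp2 G p m) (hx : Reg p x) (hxZ : x ∉ center G) (hr : r.Prime)
    (hrp : r ≠ p) (hs : s.Prime) (hrs : r ≠ s) {u v c : G} {j : ℕ}
    (hu : PEl s u) (huN : u ∈ normalizer (C[x] : Set G)) (huC : u ∉ C[x])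
    (hv : PEl r v) (hvN : v ∈ normalizer (C[x] : Set G)) (hvC : v ∉ C[x])
    (hc : c ∈ C[x]) (hvu : v * u * v⁻¹ = u ^ j * c) : False := by
  have := Fact.mk hr
  have hr0 : Pi0 G p r := ⟨hr, hrp, v, hv, fun hz => hvC (center_le_centralizer _ hz)⟩
  set P := part r x with hP
  let f : P →* G :=
    { toFun := fun a => u * a * u⁻¹ * (a : G)⁻¹
      map_one' := by simp
      map_mul' := fun a b => by
        have h1 : Commute (a : G)⁻¹ (u * b * u⁻¹ * (b : G)⁻¹) :=
          h.commute_part hx hxZ hr hrp (inv_mem a.2) (h.part_le hx hxZ hr hrp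
            (mul_mem (h.conj_mem_part hx hxZ hr hrp huN b.2) (inv_mem b.2)))
        calc u * ↑(a * b) * u⁻¹ * (↑(a * b))⁻¹
            = u * a * u⁻¹ * ((u * b * u⁻¹ * (b : G)⁻¹) * (a : G)⁻¹) := by push_cast; group
          _ = u * a * u⁻¹ * ((a : G)⁻¹ * (u * b * u⁻¹ * (b : G)⁻¹)) := by rw [h1.eq]
          _ = _ := by group }
  have hf : ∀ a : P, f a = u * a * u⁻¹ * (a : G)⁻¹ := fun a => rfl
  set B := f.range with hB
  have hBP : B ≤ P := by
    rintro _ ⟨a, rfl⟩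
    exact mul_mem (h.conj_mem_part hx hxZ hr hrp huN a.2) (inv_mem a.2)
  have hmul : ∀ k : ℕ, ∀ a ∈ P, u ^ k * a * (u ^ k)⁻¹ * a⁻¹ ∈ B := by
    intro k
    induction k with
    | zero => intro a _; simp
    | succ k ih =>
      intro a ha
      have h1 := ih a ha
      have h2 : u ^ k * a * (u ^ k)⁻¹ ∈ P := h.conj_mem_part hx hxZ hr hrp (pow_mem huN k) ha
      have h3 : f ⟨_, h2⟩ * (u ^ k * a * (u ^ k)⁻¹ * a⁻¹) =
          u ^ (k + 1) * a * (u ^ (k + 1))⁻¹ * a⁻¹ := by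
        rw [hf, pow_succ']; group
      rw [← h3]
      exact mul_mem ⟨_, rfl⟩ h1
  have hBv : zpowers v ≤ normalizer (B : Set G) := by
    rw [zpowers_le]
    refine mem_normalizer_fintype fun b hb => ?_
    obtain ⟨a, rfl⟩ := hb
    have ha' : v * a * v⁻¹ ∈ P := h.conj_mem_part hx hxZ hr hrp hvN a.2
    have hcc : Commute c (v * a * v⁻¹) := (h.commute_part hx hxZ hr hrp ha' hc).symm
    have : v * f a * v⁻¹ = u ^ j * (v * a * v⁻¹) * (u ^ j)⁻¹ * (v * a * v⁻¹)⁻¹ := by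
      calc v * f a * v⁻¹ = (v * u * v⁻¹) * (v * a * v⁻¹) * (v * u * v⁻¹)⁻¹ * (v * a * v⁻¹)⁻¹ := by
            rw [hf]; group
        _ = u ^ j * (c * (v * a * v⁻¹) * c⁻¹) * (u ^ j)⁻¹ * (v * a * v⁻¹)⁻¹ := by rw [hvu]; group
        _ = _ := by rw [hcc.eq, mul_inv_cancel_right]
    rw [SetLike.mem_coe, this]
    exact hmul j _ ha'
  have hBr : IsPGroup r B := (h.isPGroup_part hx hxZ hr hrp).to_le hBP
  have hBne : B ≠ ⊥ := by
    intro e
    obtain ⟨w, hw, hwZ⟩ := h.exists_mem_part hx hxZ hr0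
    have h1 : f ⟨w, hw⟩ = 1 := mem_bot.1 (e ▸ ⟨_, rfl⟩)
    rw [hf, mul_inv_eq_one, mul_inv_eq_iff_eq_mul] at h1
    exact huC (h.cent_part hx hxZ hr hrp hw hwZ ▸ mem_cent.2 h1)
  have hT : IsPGroup r (B ⊔ zpowers v : Subgroup G) := by
    rw [sup_comm]
    exact (TwoClassSizes.Normal.isPGroup_zpowers hv).to_sup_of_normal_right' hBr hBv
  have : (B.subgroupOf (B ⊔ zpowers v)).Normal :=
    normal_subgroupOf_of_le_normalizer (sup_le le_normalizer hBv)
  obtain ⟨e, he1⟩ := Subgroup.ne_bot_iff_exists_ne_one.1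
    (Fusion.pGroup_inf_center_ne_bot hT (B.subgroupOf (B ⊔ zpowers v)) (by
      rw [Ne, subgroupOf_eq_bot, disjoint_iff, inf_sup_self]
      exact hBne))
  obtain ⟨heB, heC⟩ := mem_inf.1 e.2
  set b : G := ((e : (B ⊔ zpowers v : Subgroup G)) : G) with hb
  have hbP : b ∈ P := hBP heB
  have hbv : b ∈ C[v] := mem_cent.2 (congrArg Subtype.val
    (mem_center_iff.1 heC ⟨v, mem_sup_right (mem_zpowers v)⟩)).symm
  have hbp := (h.mem_part hx hxZ hr hrp).1 hbP
  have hbZ := h.central_of_mem_two hx hxZ (hv.reg hr h.prime hrp) hvC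
    (hbp.2.reg hr h.prime hrp) hbp.1 hbv
  obtain ⟨a, ha⟩ : ∃ a, f a = b := MonoidHom.mem_range.1 heB
  rw [hf] at ha
  have hua : Commute u a := commute_of_conj_eq (c := b) (mem_center_iff.1 hbZ u).symm
    (by rw [← ha]; group) (hu.coprime hs hr (Ne.symm hrs) hbp.2)
  refine he1 (Subtype.ext (Subtype.ext ?_))
  show b = 1
  rw [← ha, hua.eq, mul_inv_cancel_right, mul_inv_cancel]

/-- No homomorphism of `N(C(x))` kills the `s`-elements and `C(x)` but not the `r`-element. -/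
theorem false_of_hom (h : Hyp2 G p m) (hx : Reg p x) (hxZ : x ∉ center G) (hr : r.Prime)
    (hrp : r ≠ p) (hs : s.Prime) (hsp : s ≠ p) (hrs : r ≠ s) (hsm : s ∣ m)
    {M : Type*} [Group M] (ρ : normalizer (C[x] : Set G) →* M)
    (hρC : ∀ g : normalizer (C[x] : Set G), (g : G) ∈ C[x] → ρ g = 1)
    (hρs : ∀ g : normalizer (C[x] : Set G), PEl s (g : G) → ρ g = 1)
    (u : normalizer (C[x] : Set G)) (hu : PEl r (u : G)) (hu1 : ρ u ≠ 1) : False := by
  have := Fact.mk hr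
  have := Fact.mk hs
  obtain ⟨_, ⟨S, rfl⟩, hPS, hSN, w, hwS, hwC, hSle⟩ := h.exists_outside hx hxZ hs hsp hsm
  set S' := S.subtype hSN with hS'
  have hSker : (S' : Subgroup (normalizer (C[x] : Set G))) ≤ ρ.ker := fun g hg =>
    hρs g (pel_of_mem S.isPGroup' (hg : (g : G) ∈ (S : Subgroup G)))
  have htop := Sylow.normalizer_sup_eq_top' S' hSker
  obtain ⟨n, hn, k, hk, hnk⟩ := mem_sup_of_normal_right.1 (htop ▸ mem_top u :
    u ∈ normalizer (S' : Set (normalizer (C[x] : Set G))) ⊔ ρ.ker)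
  have hn1 : ρ n = ρ u := by rw [← hnk, map_mul, MonoidHom.mem_ker.1 hk, mul_one]
  obtain ⟨a, b, hab, -, ha, hb, har, hbr⟩ :=
    Fusion.exists_pPart_mul (p := r) n (isOfFinOrder_of_finite n)
  have hbρ : ρ b = 1 := by
    obtain ⟨i, hi⟩ := hu
    have h1 : orderOf (ρ b) ∣ r ^ i := by
      have h2 : ρ b ∈ zpowers (ρ n) := by
        obtain ⟨l, hl⟩ := mem_zpowers_iff.1 hb
        exact ⟨l, by rw [← hl, map_zpow]⟩
      have h3 : orderOf u ∣ r ^ i := by rwa [← orderOf_coe]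
      have h4 := (orderOf_dvd_of_mem_zpowers h2).trans (dvd_of_eq (congrArg orderOf hn1))
      exact h4.trans ((orderOf_map_dvd ρ u).trans h3)
    exact orderOf_eq_one_iff.1 (Nat.eq_one_of_dvd_coprimes (Nat.Coprime.pow_left i hbr.symm) h1
      (orderOf_map_dvd ρ b))
  have ha1 : ρ a ≠ 1 := by
    intro e
    apply hu1
    rw [← hn1, hab, map_mul, e, hbρ, one_mul]
  have haC : (a : G) ∉ C[x] := fun hC => ha1 (hρC a hC)
  have harG : PEl r (a : G) := by
    obtain ⟨i, hi⟩ := har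
    exact ⟨i, by rw [orderOf_coe]; exact hi⟩
  have hanorm : a ∈ normalizer (S' : Set (normalizer (C[x] : Set G))) := zpowers_le.2 hn ha
  have hwS' : (⟨w, hSN hwS⟩ : normalizer (C[x] : Set G)) ∈ S' := hwS
  have h1 : (a : G) * w * (a : G)⁻¹ ∈ (S : Subgroup G) :=
    (mem_normalizer_iff.1 hanorm _).1 hwS'
  have hwP : zpowers w ≤ normalizer (part s x : Set G) := by
    rw [zpowers_le, mem_normalizer_iff]
    refine fun g => ⟨fun hg => h.conj_mem_part hx hxZ hs hsp (hSN hwS) hg, fun hg => ?_⟩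
    have := h.conj_mem_part hx hxZ hs hsp (inv_mem (hSN hwS)) hg
    simpa [mul_assoc] using this
  have h2 : (a : G) * w * (a : G)⁻¹ ∈ part s x ⊔ zpowers w := by
    rw [sup_comm]
    exact hSle h1
  obtain ⟨c, hc, y, hy, hcy⟩ := (Coprime.mem_sup_of_le_normalizer hwP).1 h2
  obtain ⟨j, rfl⟩ := Submonoid.mem_powers_iff _ _ |>.1 (mem_powers_iff_mem_zpowers.2 hy)
  refine h.false_of_normalizes hx hxZ hr hrp hs hrs (j := j) (c := (w ^ j)⁻¹ * c * w ^ j)
    (pel_of_mem S.isPGroup' hwS) (hSN hwS) hwC harG a.2 haC ?_ ?_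
  · have h3 := (mem_normalizer_iff.1 (inv_mem (pow_mem (hSN hwS) j)) c).1
      (h.part_le hx hxZ hs hsp hc)
    rwa [inv_inv] at h3
  · rw [← hcy]; group

/-- The image of the `r`-part modulo the centre has constant order. -/
theorem card_map_part_eq (h : Hyp2 G p m) (hx : Reg p x) (hxZ : x ∉ center G) {y : G}
    (hy : Reg p y) (hyZ : y ∉ center G) (hr : r.Prime) (hrp : r ≠ p) :
    Nat.card ((part r x).map πZ) = Nat.card ((part r y).map πZ) := by
  have key : ∀ y : G, Reg p y → y ∉ center G → Nat.card ((part r y).map πZ) *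
      Nat.card (elsPart (PEl r) (center G)) = r ^ (Nat.card C[x]).factorization r := by
    intro y hy hyZ
    rw [h.toHyp.card_eq hx hxZ hy hyZ, ← h.card_part hy hyZ hr hrp, ← relIndex_ker,
      QuotientGroup.ker_mk']
    have e : elsPart (PEl r) (center G) = center G ⊓ part r y := by
      ext g
      rw [mem_inf, h.mem_part hy hyZ hr hrp, mem_elsPart PEl.one (fun _ => PEl.inv)
        (fun _ _ hc => PEl.mul hc) fun a ha b _ _ _ => (mem_center_iff.1 ha b).symm]
      exact ⟨fun hg => ⟨hg.1, center_le_centralizer _ hg.1, hg.2⟩, fun hg => ⟨hg.1, hg.2.2⟩⟩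
    rw [e, mul_comm, ← inf_relIndex_right (center G) (part r y), ← relIndex_bot_left,
      relIndex_mul_relIndex ⊥ _ _ bot_le inf_le_right, relIndex_bot_left]
  exact Nat.eq_of_mul_eq_mul_right Nat.card_pos ((key x hx hxZ).trans (key y hy hyZ).symm)

theorem exists_transvection (h : Hyp2 G p m) (hx : Reg p x) (hxZ : x ∉ center G) (hr : r.Prime)
    (hrp : r ≠ p) {u z : G} (hu : PEl r u) (huN : u ∈ normalizer (C[x] : Set G))
    (huC : u ∉ C[x]) (hz : z ∈ part r x) (hzZ : z ∉ center G) (hzu : Commute (πZ z) (πZ u))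
    (hbig : Nat.card ((part r x).map πZ) ≠ r) :
    ∃ v ∈ part r x, πZ v * πZ u * (πZ v)⁻¹ = πZ z * πZ u := by
  have := Fact.mk hr
  set P := (part r x).map πZ with hP
  set U := πZ u with hU
  have hconj : ∀ a ∈ P, U * a * U⁻¹ ∈ P := by
    rintro _ ⟨a, ha, rfl⟩
    exact ⟨u * a * u⁻¹, h.conj_mem_part hx hxZ hr hrp huN ha, by simp [hU]⟩
  have hcomm : ∀ a ∈ P, ∀ b ∈ P, Commute a b := fun a ha b hb =>
    h.commute_map_part hx hxZ hr hrp ha (map_mono (h.part_le hx hxZ hr hrp) hb)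
  let f : P →* G ⧸ center G :=
    { toFun := fun a => a * U * (a : G ⧸ center G)⁻¹ * U⁻¹
      map_one' := by simp
      map_mul' := fun a b => by
        have h2 : Commute (b * U * (b : G ⧸ center G)⁻¹ * U⁻¹) (U * (a : G ⧸ center G)⁻¹ * U⁻¹) := by
          refine hcomm _ ?_ _ (hconj _ (inv_mem a.2))
          have := mul_mem b.2 (hconj _ (inv_mem b.2))
          simpa [mul_assoc] using this
        calc ↑(a * b) * U * (↑(a * b))⁻¹ * U⁻¹
            = (a : G ⧸ center G) * ((b * U * (b : G ⧸ center G)⁻¹ * U⁻¹) *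
                (U * (a : G ⧸ center G)⁻¹ * U⁻¹)) := by push_cast; group
          _ = (a : G ⧸ center G) * ((U * (a : G ⧸ center G)⁻¹ * U⁻¹) *
                (b * U * (b : G ⧸ center G)⁻¹ * U⁻¹)) := by rw [h2.eq]
          _ = _ := by group }
  have hf : ∀ a : P, f a = a * U * (a : G ⧸ center G)⁻¹ * U⁻¹ := fun a => rfl
  have hIP : f.range ≤ P := by
    rintro _ ⟨a, rfl⟩
    have := mul_mem a.2 (hconj _ (inv_mem a.2))
    rw [hf]
    simpa [mul_assoc] using this
  have hUp : IsPGroup r (zpowers U) := by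
    refine TwoClassSizes.Normal.isPGroup_zpowers ?_
    obtain ⟨k, hk⟩ := hu
    exact ⟨k, (orderOf_map_dvd _ u).trans hk⟩
  have hIU : zpowers U ≤ normalizer (f.range : Set (G ⧸ center G)) := by
    rw [zpowers_le]
    refine mem_normalizer_fintype ?_
    rintro _ ⟨a, rfl⟩
    refine ⟨⟨U * a * U⁻¹, hconj _ a.2⟩, ?_⟩
    rw [hf, hf]
    group
  have hIne : f.range ≠ ⊥ := by
    intro e
    have hall : P ≤ (part r x ⊓ (centralizer {U}).comap πZ).map πZ := by
      intro a ha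
      have h1 : f ⟨a, ha⟩ = 1 := mem_bot.1 (e ▸ ⟨_, rfl⟩)
      rw [hf, mul_inv_eq_one, mul_inv_eq_iff_eq_mul] at h1
      obtain ⟨v, hv, rfl⟩ := ha
      exact ⟨v, ⟨hv, Subgroup.mem_comap.2 (mem_centralizer_singleton_iff.2 h1)⟩, rfl⟩
    rcases (Nat.dvd_prime hr).1 ((card_dvd_of_le hall).trans
      (h.card_fixed_dvd hx hxZ hr hrp hu huC)) with e1 | e1
    · have h0 : P = ⊥ := eq_bot_of_card_eq P e1
      exact hzZ ((mk'_eq_one_iff z).1 (mem_bot.1 (h0 ▸ mem_map_of_mem πZ hz)))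
    · exact hbig e1
  have hT : IsPGroup r (f.range ⊔ zpowers U : Subgroup (G ⧸ center G)) := by
    rw [sup_comm]
    exact hUp.to_sup_of_normal_right' (((h.isPGroup_part hx hxZ hr hrp).map _).to_le hIP) hIU
  have : (f.range.subgroupOf (f.range ⊔ zpowers U)).Normal :=
    normal_subgroupOf_of_le_normalizer (sup_le le_normalizer hIU)
  obtain ⟨e, he1⟩ := Subgroup.ne_bot_iff_exists_ne_one.1
    (Fusion.pGroup_inf_center_ne_bot hT (f.range.subgroupOf (f.range ⊔ zpowers U)) (by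
      rw [Ne, subgroupOf_eq_bot, disjoint_iff, inf_sup_self]
      exact hIne))
  obtain ⟨heI, heC⟩ := mem_inf.1 e.2
  set b : G ⧸ center G := ((e : (f.range ⊔ zpowers U : Subgroup _)) : G ⧸ center G) with hb
  have hbU : Commute b U :=
    (congrArg Subtype.val (mem_center_iff.1 heC ⟨U, mem_sup_right (mem_zpowers U)⟩)).symm
  have hb1 : b ≠ 1 := fun e' => he1 (Subtype.ext (Subtype.ext e'))
  have hzI : πZ z ∈ f.range :=
    (zpowers_le.2 (show b ∈ f.range from heI)) (h.fixed_mem_zpowers hx hxZ hr hrp hu huC (hIP heI) hbU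
      (mem_map_of_mem πZ hz) hzu hb1).1
  obtain ⟨⟨a, ha⟩, hfa⟩ := hzI
  obtain ⟨v, hv, rfl⟩ := ha
  refine ⟨v, hv, ?_⟩
  rw [← hfa, hf]
  exact (inv_mul_cancel_right _ U).symm

theorem act_eq_one_of_small (h : Hyp2 G p m) (hx : Reg p x) (hxZ : x ∉ center G) (hr : r.Prime)
    (hrp : r ≠ p) (hsmall : Nat.card ((part r x).map πZ) = r) (hs : s.Prime) (hsr : ¬ s ∣ r - 1)
    (ρ : normalizer (C[x] : Set G) →* MulAut (omega r x))
    (g : normalizer (C[x] : Set G)) (hg : PEl s (g : G)) : ρ g = 1 := by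
  have := Fact.mk hr
  have hE : Nat.card (omega r x) = r := by
    rw [show omega r x = (part r x).map πZ from le_antisymm
      (fun e he => ((h.mem_omega hx hxZ hr hrp).1 he).1) (fun e he =>
        (h.mem_omega hx hxZ hr hrp).2 ⟨he, by
          have := pow_card_eq_one' (x := (⟨e, he⟩ : (part r x).map πZ))
          rw [hsmall] at this
          exact congrArg Subtype.val this⟩)]
    exact hsmall
  have : IsCyclic (omega r x) := isCyclic_of_prime_card hE
  have hA : Nat.card (MulAut (omega r x)) = r - 1 := by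
    rw [IsCyclic.card_mulAut, hE, Nat.totient_prime hr]
  obtain ⟨i, hi⟩ := hg
  rw [← orderOf_eq_one_iff]
  refine Nat.eq_one_of_dvd_coprimes (Nat.Coprime.pow_left i ((hs.coprime_iff_not_dvd).2 hsr))
    ((orderOf_map_dvd ρ g).trans (by rwa [← orderOf_coe])) ?_
  rw [← hA]
  exact orderOf_dvd_natCard _

theorem pow_prime_mem_cent (h : Hyp2 G p m) (hx : Reg p x) (hxZ : x ∉ center G) (hr : r.Prime)
    (hrp : r ≠ p) {u : G} (hu : PEl r u) (huN : u ∈ normalizer (C[x] : Set G)) :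
    u ^ r ∈ C[x] := by
  have := Fact.mk hr
  obtain ⟨k, hk⟩ := h.relIndex_dvd hx hxZ hr hrp (TwoClassSizes.Normal.isPGroup_zpowers hu)
    (zpowers_le.2 huN)
  have : ((C[x]).subgroupOf (zpowers u)).Normal :=
    normal_subgroupOf_of_le_normalizer (zpowers_le.2 huN)
  have h1 := Subgroup.pow_index_mem ((C[x]).subgroupOf (zpowers u)) ⟨u, mem_zpowers u⟩
  have h2 := pow_mem h1 k
  rw [← pow_mul, show ((C[x]).subgroupOf (zpowers u)).index * k = r from hk.symm,
    mem_subgroupOf, coe_pow] at h2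
  exact h2

theorem exists_multiplier (h : Hyp2 G p m) (hx : Reg p x) (hxZ : x ∉ center G) (hs : s.Prime)
    (hsp : s ≠ p) {u z : G} (hu : PEl s u) (huN : u ∈ normalizer (C[x] : Set G))
    (huC : u ∉ C[x]) (hz : z ∈ part s x) (hzZ : z ∉ center G) (hzu : Commute (πZ z) (πZ u))
    (hbig : Nat.card ((part s x).map πZ) ≠ s) {l : ℕ} (hl : 0 < l) (hls : l < s) :
    ∃ g ∈ normalizer (C[x] : Set G), (u ^ l)⁻¹ * (g * u * g⁻¹) ∈ C[x] := by
  have := Fact.mk hs
  have hu' : Reg p u := hu.reg hs h.prime hsp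
  have huZ : u ∉ center G := fun hz' => huC (center_le_centralizer _ hz')
  have hz' := (h.mem_part hx hxZ hs hsp).1 hz
  have hCz : C[z] = C[x] := h.cent_part hx hxZ hs hsp hz hzZ
  have hupart : u ∈ part s u := (h.mem_part hu' huZ hs hsp).2 ⟨self_mem_cent u, hu⟩
  have hzC : z ∉ C[u] := fun hh => huC (hCz ▸ mem_cent_symm hh)
  have hzN : z ∈ normalizer (C[u] : Set G) := by
    refine h.mem_normalizer hu' huZ hu' huZ (self_mem_cent u) ?_
    have h2 := mul_mem (center_le_centralizer ({u} : Set G) (conj_mem_center_of_commute hzu))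
      (self_mem_cent u)
    rwa [inv_mul_cancel_right] at h2
  obtain ⟨v, hv, hvu⟩ := h.exists_transvection hx hxZ hs hsp hu huN huC hz hzZ hzu hbig
  obtain ⟨v', hv', hvz⟩ := h.exists_transvection hu' huZ hs hsp hz'.2 hzN hzC hupart huZ hzu.symm
    (by rwa [h.card_map_part_eq hu' huZ hx hxZ hs hsp])
  have has : (πZ z) ^ s = 1 := (h.fixed_mem_zpowers hx hxZ hs hsp hu huC (mem_map_of_mem πZ hz) hzu
    (mem_map_of_mem πZ hz) hzu fun e => hzZ ((mk'_eq_one_iff z).1 e)).2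
  have hbs : (πZ u) ^ s = 1 := (h.fixed_mem_zpowers hu' huZ hs hsp hz'.2 hzC
    (mem_map_of_mem πZ hupart) hzu.symm (mem_map_of_mem πZ hupart) hzu.symm
    fun e => huZ ((mk'_eq_one_iff u).1 e)).2
  set a := πZ z with ha
  set b := πZ u with hb
  set V := πZ v with hV
  set V' := πZ v' with hV'
  have hVa : Commute V a :=
    h.commute_map_part hx hxZ hs hsp (mem_map_of_mem πZ hv) (mem_map_of_mem πZ hz'.1)
  have hVb : Commute V' b :=
    h.commute_map_part hu' huZ hs hsp (mem_map_of_mem πZ hv') (mem_map_of_mem πZ (self_mem_cent u))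
  let M : ℕ → ℕ → G ⧸ center G := fun i j => a ^ i * b ^ j
  have hM : ∀ i j, M i j = a ^ i * b ^ j := fun i j => rfl
  have hitV : ∀ n, V ^ n * b * (V ^ n)⁻¹ = a ^ n * b := by
    intro n
    induction n with
    | zero => simp
    | succ n ih =>
      calc V ^ (n + 1) * b * (V ^ (n + 1))⁻¹ = V * (V ^ n * b * (V ^ n)⁻¹) * V⁻¹ := by
            rw [pow_succ']; group
        _ = V * (a ^ n * b) * V⁻¹ := by rw [ih]
        _ = a ^ n * (V * b * V⁻¹) := by rw [← mul_assoc V, (hVa.pow_right n).eq]; group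
        _ = a ^ (n + 1) * b := by rw [hvu, pow_succ, mul_assoc]
  have hitV' : ∀ n, V' ^ n * a * (V' ^ n)⁻¹ = a * b ^ n := by
    intro n
    induction n with
    | zero => simp
    | succ n ih =>
      calc V' ^ (n + 1) * a * (V' ^ (n + 1))⁻¹ = V' * (V' ^ n * a * (V' ^ n)⁻¹) * V'⁻¹ := by
            rw [pow_succ']; group
        _ = V' * (a * b ^ n) * V'⁻¹ := by rw [ih]
        _ = (V' * a * V'⁻¹) * (V' * b ^ n * V'⁻¹) := by group
        _ = a * b ^ (n + 1) := by
            rw [hvz, (hVb.pow_right n).eq, mul_inv_cancel_right, ← hzu.eq, pow_succ', mul_assoc]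
  have hcV : ∀ n i j, MulAut.conj (V ^ n) (M i j) = M (i + j * n) j := by
    intro n i j
    rw [hM, hM, map_mul, map_pow (MulAut.conj (V ^ n)) a, map_pow (MulAut.conj (V ^ n)) b,
      MulAut.conj_apply, MulAut.conj_apply, hitV,
      (hVa.pow_left n).eq, mul_inv_cancel_right, (hzu.pow_left n).mul_pow, ← pow_mul, pow_add,
      ← mul_assoc, Nat.mul_comm n j]
  have hcV' : ∀ n i j, MulAut.conj (V' ^ n) (M i j) = M i (i * n + j) := by
    intro n i j
    rw [hM, hM, map_mul, map_pow (MulAut.conj (V' ^ n)) a, map_pow (MulAut.conj (V' ^ n)) b,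
      MulAut.conj_apply, MulAut.conj_apply, hitV',
      (hVb.pow_left n).eq, mul_inv_cancel_right, (hzu.pow_right n).mul_pow, ← pow_mul, pow_add,
      mul_assoc, Nat.mul_comm n i]
  obtain ⟨i, hi0, hil⟩ : ∃ i, 0 < i ∧ ((i : ℕ) : ZMod s) = (l : ZMod s)⁻¹ := by
    refine ⟨((l : ZMod s)⁻¹).val, ?_, ZMod.natCast_zmod_val _⟩
    rw [pos_iff_ne_zero, Ne, ZMod.val_eq_zero, inv_eq_zero, ZMod.natCast_eq_zero_iff]
    exact fun hd => absurd (Nat.le_of_dvd hl hd) (by omega)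
  set k := (-(l : ZMod s)).val with hk
  have hl0 : (l : ZMod s) ≠ 0 := by
    rw [Ne, ZMod.natCast_eq_zero_iff]
    exact fun hd => absurd (Nat.le_of_dvd hl hd) (by omega)
  set g := v' ^ k * v ^ (i - 1) * v' with hg
  have hπg : πZ g = V' ^ k * V ^ (i - 1) * V' := by
    rw [hg, map_mul, map_mul, map_pow, map_pow]
  have hga : πZ (g * z * g⁻¹) = M i (i * k + 1) := by
    have e : πZ (g * z * g⁻¹) =
        MulAut.conj (V' ^ k) (MulAut.conj (V ^ (i - 1)) (MulAut.conj (V' ^ 1) (M 1 0))) := by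
      rw [← MulAut.mul_apply, ← MulAut.mul_apply, ← map_mul, ← map_mul, MulAut.conj_apply, hM,
        pow_one, pow_one, pow_zero, mul_one, ← hπg]
      simp [ha]
    rw [e, hcV', hcV, hcV']
    congr 1 <;> simp <;> grind
  have hgb : πZ (g * u * g⁻¹) = M (i - 1) ((i - 1) * k + 1) := by
    have e : πZ (g * u * g⁻¹) =
        MulAut.conj (V' ^ k) (MulAut.conj (V ^ (i - 1)) (MulAut.conj (V' ^ 1) (M 0 1))) := by
      rw [← MulAut.mul_apply, ← MulAut.mul_apply, ← map_mul, ← map_mul, MulAut.conj_apply, hM,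
        pow_one, pow_one, pow_zero, one_mul, ← hπg]
      simp [hb]
    rw [e, hcV', hcV, hcV']
    congr 1 <;> simp
  have hmod : ∀ j j' : ℕ, (j : ZMod s) = j' → b ^ j = b ^ j' := fun j j' e => by
    rw [pow_eq_pow_mod j hbs, pow_eq_pow_mod j' hbs, (ZMod.natCast_eq_natCast_iff' j j' s).1 e]
  have hkc : ((k : ℕ) : ZMod s) = -(l : ZMod s) := ZMod.natCast_zmod_val _
  have e1 : b ^ (i * k + 1) = b ^ 0 := hmod _ _ (by
    rw [Nat.cast_add, Nat.cast_mul, hil, hkc, Nat.cast_one, mul_neg, inv_mul_cancel₀ hl0,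
      neg_add_cancel, Nat.cast_zero])
  have e2 : b ^ ((i - 1) * k + 1) = b ^ l := hmod _ _ (by
    rw [Nat.cast_add, Nat.cast_mul, Nat.cast_sub hi0, hil, hkc, Nat.cast_one, sub_mul, mul_neg,
      inv_mul_cancel₀ hl0]
    ring)
  rw [hM, e1, pow_zero, mul_one, ha, ← map_pow] at hga
  rw [hM, e2, ha, hb, ← map_pow, ← map_pow] at hgb
  have hgN : g ∈ normalizer (C[x] : Set G) := by
    refine h.mem_normalizer hx hxZ (hz'.2.reg hs h.prime hsp) hzZ hz'.1 ?_
    have h1 : (z ^ i)⁻¹ * (g * z * g⁻¹) ∈ center G := by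
      rw [← mk'_eq_one_iff, map_mul _ ((z ^ i)⁻¹), map_inv, hga, inv_mul_cancel]
    have h2 := mul_mem (pow_mem hz'.1 i) (center_le_centralizer ({x} : Set G) h1)
    rwa [mul_inv_cancel_left] at h2
  refine ⟨g, hgN, ?_⟩
  set z' := z ^ (i - 1) with hz''
  have h1 : (u ^ l * z')⁻¹ * (g * u * g⁻¹) ∈ center G := by
    rw [← mk'_eq_one_iff, map_mul _ ((u ^ l * z')⁻¹), map_inv, hgb, map_mul, hz'',
      map_pow, map_pow, (hzu.symm.pow_pow l (i - 1)).eq, inv_mul_cancel]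
  have h2 := mul_mem (pow_mem hz'.1 (i - 1)) (center_le_centralizer ({x} : Set G) h1)
  rwa [show z ^ (i - 1) * ((u ^ l * z')⁻¹ * (g * u * g⁻¹)) = (u ^ l)⁻¹ * (g * u * g⁻¹) by
    rw [hz'']; group] at h2

theorem false_of_two_primes (h : Hyp2 G p m) (hx : Reg p x) (hxZ : x ∉ center G) (hr : r.Prime)
    (hrp : r ≠ p) (hrm : r ∣ m) (hs : s.Prime) (hsp : s ≠ p) (hsm : s ∣ m) (hrs : r < s) :
    False := by
  classical
  have := Fact.mk hr
  have := Fact.mk hs
  have hr0 := h.toHyp.pi0_of_dvd hx hxZ hr hrp hrm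
  have hs0 := h.toHyp.pi0_of_dvd hx hxZ hs hsp hsm
  obtain ⟨_, ⟨Rr, rfl⟩, -, hRrN, ur, hurR, hurC, -⟩ := h.exists_outside hx hxZ hr hrp hrm
  obtain ⟨_, ⟨Rs, rfl⟩, -, hRsN, us, husR, husC, -⟩ := h.exists_outside hx hxZ hs hsp hsm
  have hur := pel_of_mem Rr.isPGroup' hurR
  have hus := pel_of_mem Rs.isPGroup' husR
  have hbigr : Nat.card ((part r x).map πZ) ≠ r := by
    intro e
    obtain ⟨ρ, hρ⟩ := h.exists_act hx hxZ hr hrp
    refine husC (h.mem_of_act_eq_one hx hxZ hr0 hs hrs.ne' ρ hρ ⟨us, hRsN husR⟩ hus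
      (h.act_eq_one_of_small hx hxZ hr hrp e hs (fun hd => ?_) ρ _ hus))
    have := Nat.le_of_dvd (by have := hr.two_le; omega) hd
    omega
  have hbigs : Nat.card ((part s x).map πZ) ≠ s := by
    intro e
    obtain ⟨ρ, hρ⟩ := h.exists_act hx hxZ hs hsp
    refine h.false_of_hom hx hxZ hr hrp hs hsp hrs.ne hsm ρ
      (h.act_eq_one_of_mem_cent hx hxZ hs hsp ρ hρ)
      (fun g hg => h.act_eq_one_of_small hx hxZ hs hsp e hs (fun hd => ?_) ρ g hg)
      ⟨ur, hRrN hurR⟩ hur fun e1 =>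
        hurC (h.mem_of_act_eq_one hx hxZ hs0 hr hrs.ne ρ hρ _ hur e1)
    have := Nat.le_of_dvd (by have := hs.two_le; omega) hd
    have := hs.two_le
    omega
  obtain ⟨z, hz, hzZ, -, hfix⟩ := h.exists_fixed hx hxZ hs0 Rs.isPGroup' hRsN
  have hzu : Commute (πZ z) (πZ us) := by
    have h1 := (mk'_eq_one_iff _).2 (hfix us husR)
    rw [map_mul, map_mul, map_mul, map_inv, map_inv, mul_inv_eq_one, mul_inv_eq_iff_eq_mul] at h1
    exact h1.symm
  obtain ⟨ρ, hρ⟩ := h.exists_act hx hxZ hr hrp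
  set f := ρ ⟨ur, hRrN hurR⟩ with hf
  set φ := ρ ⟨us, hRsN husR⟩ with hφ
  have hf1 : f ^ r = 1 := by
    rw [hf, ← map_pow]
    exact h.act_eq_one_of_mem_cent hx hxZ hr hrp ρ hρ _
      (h.pow_prime_mem_cent hx hxZ hr hrp hur (hRrN hurR))
  have hφs : φ ^ s = 1 := by
    rw [hφ, ← map_pow]
    exact h.act_eq_one_of_mem_cent hx hxZ hr hrp ρ hρ _
      (h.pow_prime_mem_cent hx hxZ hs hsp hus (hRsN husR))
  have hφ1 : φ ≠ 1 := fun e =>
    husC (h.mem_of_act_eq_one hx hxZ hr0 hs hrs.ne' ρ hρ _ hus e)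
  have hfixcard : Nat.card {e : omega r x // f e = e} ≤ r := by
    refine le_trans ?_ (Nat.le_of_dvd hr.pos (h.card_fixed_dvd hx hxZ hr hrp hur hurC))
    refine Nat.card_le_card_of_injective (fun e => ⟨(e.1 : G ⧸ center G), ?_⟩) ?_
    · obtain ⟨v, hv, hve⟩ := ((h.mem_omega hx hxZ hr hrp).1 e.1.2).1
      refine ⟨v, ⟨hv, Subgroup.mem_comap.2 (mem_centralizer_singleton_iff.2 ?_)⟩, hve⟩
      have h1 := (hρ ⟨ur, hRrN hurR⟩ e.1).symm.trans (congrArg Subtype.val e.2)
      rw [← hve] at h1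
      exact (mul_inv_eq_iff_eq_mul.1 h1).symm
    · intro e e' he
      exact Subtype.ext (Subtype.ext (congrArg Subtype.val he :))
  have hconj : ∀ l : ℕ, 0 < l → l < s → ∃ t, t * φ * t⁻¹ = φ ^ l := by
    intro l hl hls
    obtain ⟨g, hg, hgc⟩ := h.exists_multiplier hx hxZ hs hsp hus (hRsN husR) husC hz hzZ hzu hbigs
      hl hls
    refine ⟨ρ ⟨g, hg⟩, ?_⟩
    have h1 := h.act_eq_one_of_mem_cent hx hxZ hr hrp ρ hρ
      ((⟨us, hRsN husR⟩ ^ l)⁻¹ * (⟨g, hg⟩ * ⟨us, hRsN husR⟩ * ⟨g, hg⟩⁻¹)) hgc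
    rw [map_mul, map_inv, map_pow, inv_mul_eq_one, map_mul, map_mul, map_inv] at h1
    exact h1.symm
  have hexp : ∀ e : omega r x, e ^ r = 1 := fun e =>
    Subtype.ext (by rw [coe_pow]; exact ((h.mem_omega hx hxZ hr hrp).1 e.2).2)
  have hcom : ∀ a b : omega r x, a * b = b * a := fun a b => Subtype.ext
    (h.commute_map_part hx hxZ hr hrp ((h.mem_omega hx hxZ hr hrp).1 a.2).1
      (map_mono (h.part_le hx hxZ hr hrp) ((h.mem_omega hx hxZ hr hrp).1 b.2).1)).eq
  let _ : CommGroup (omega r x) := { (inferInstance : Group (omega r x)) with mul_comm := hcom }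
  obtain ⟨d, hd, hdr, hsd⟩ :=
    bounds_of_auts hr hs hrs.ne hexp f φ hf1 hfixcard hφs hφ1 hconj
  -- `r = 2`, `s = 3` and the group has order four
  have hs3 : s = r + 1 := by omega
  have hr2 : r = 2 := by
    rcases hr.eq_two_or_odd with e | e
    · exact e
    · have h2 : s % 2 = 0 := by omega
      have := (Nat.prime_dvd_prime_iff_eq Nat.prime_two hs).1 (Nat.dvd_of_mod_eq_zero h2)
      have := hr.two_le
      omega
  subst hr2
  obtain rfl : s = 3 := by omega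
  obtain rfl : d = 2 := by omega
  have : Fintype (omega 2 x) := Fintype.ofFinite _
  let τ : MulAut (omega 2 x) →* Equiv.Perm (omega 2 x) :=
    { toFun := fun a => a.toEquiv, map_one' := rfl, map_mul' := fun a b => rfl }
  have hcard : Fintype.card (omega 2 x) = 4 := by rw [← Nat.card_eq_fintype_card, hd]; norm_num
  set σ := τ f with hσ
  have hσ2 : σ ^ 2 = 1 := by rw [hσ, ← map_pow, hf1, map_one]
  have hσ1 : σ ≠ 1 := by
    intro e
    have h1 : ∀ a : omega 2 x, f a = a := fun a => DFunLike.congr_fun e a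
    rw [Nat.card_congr (Equiv.subtypeUnivEquiv h1), Nat.card_eq_fintype_card, hcard] at hfixcard
    omega
  have hsupp : σ.support.card = 2 := by
    have h1 : σ.support.card ≤ 3 := by
      have : σ.support ⊆ Finset.univ.erase 1 := fun a ha => by
        refine Finset.mem_erase.2 ⟨?_, Finset.mem_univ a⟩
        rintro rfl
        exact Equiv.Perm.mem_support.1 ha (map_one f)
      refine (Finset.card_le_card this).trans ?_
      rw [Finset.card_erase_of_mem (Finset.mem_univ _), Finset.card_univ, hcard]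
    have h2 := Equiv.Perm.two_dvd_card_support hσ2
    have h3 : 0 < σ.support.card := Finset.card_pos.2
      (Finset.nonempty_iff_ne_empty.2 fun e => hσ1 (Equiv.Perm.support_eq_empty_iff.1 e))
    omega
  have hsign : Equiv.Perm.sign σ = -1 := (Equiv.Perm.card_support_eq_two.1 hsupp).sign_eq
  refine h.false_of_hom hx hxZ hr hrp hs hsp hrs.ne hsm ((Equiv.Perm.sign.comp τ).comp ρ)
    (fun g hg => ?_) (fun g hg => ?_) ⟨ur, hRrN hurR⟩ hur ?_
  · rw [MonoidHom.comp_apply, h.act_eq_one_of_mem_cent hx hxZ hr hrp ρ hρ g hg, map_one]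
  · obtain ⟨i, hi⟩ := hg
    rw [← orderOf_eq_one_iff]
    refine Nat.eq_one_of_dvd_coprimes (Nat.Coprime.pow_left i (by norm_num : Nat.Coprime 3 2))
      ((orderOf_map_dvd _ g).trans (by rwa [← orderOf_coe])) ?_
    exact orderOf_dvd_of_pow_eq_one (Int.units_sq _)
  · rw [MonoidHom.comp_apply, MonoidHom.comp_apply, ← hf, ← hσ, hsign]
    decide

end Hyp2

end Cfsg.Agent.TwoRegSizes
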