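import Cfsg.Agent.TwoClassSizes.NormalBasic
import Cfsg.Agent.Fusion.Residual

/-!
Groups whose `p`-regular elements have two conjugacy class sizes: the centralizers.
-/

set_option autoImplicit false
set_option linter.unusedSectionVars false

namespace Cfsg.Agent.TwoRegSizes

open Subgroup
open Cfsg.Agent.TwoClassSizes.Normal (mem_cent self_mem_cent mem_cent_symm mem_cent_conj
  conj_mem_center orderOf_conj)

universe u

variable {G : Type u} [Group G]

local notation "C[" x "]" => Subgroup.centralizer ({x} : Set _)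

/-- An element of order prime to `p`. -/
def Reg (p : ℕ) (g : G) : Prop := (orderOf g).Coprime p

/-- An element of `r`-power order. -/
def PEl (r : ℕ) (g : G) : Prop := ∃ k, orderOf g ∣ r ^ k

/-- The subgroup generated by the elements of `K` with the property `P`. -/
def elsPart (P : G → Prop) (K : Subgroup G) : Subgroup G := closure {g | g ∈ K ∧ P g}

/-- The `r`-part of a centralizer. -/
def part (r : ℕ) (x : G) : Subgroup G := elsPart (PEl r) (centralizer {x})

/-- The `p`-regular part of a centralizer. -/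
def regC (p : ℕ) (x : G) : Subgroup G := elsPart (Reg p) (centralizer {x})

section Elements

variable {p r : ℕ} {g h u : G}

theorem Reg.one : Reg p (1 : G) := by rw [Reg, orderOf_one]; exact Nat.coprime_one_left p

theorem Reg.mul (hc : Commute g h) (hg : Reg p g) (hh : Reg p h) : Reg p (g * h) :=
  (Nat.Coprime.mul_left hg hh).coprime_dvd_left hc.orderOf_mul_dvd_mul_orderOf

theorem Reg.inv (hg : Reg p g) : Reg p g⁻¹ := by rwa [Reg, orderOf_inv]

theorem Reg.of_mem_zpowers (hg : Reg p g) (hh : h ∈ zpowers g) : Reg p h :=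
  Nat.Coprime.coprime_dvd_left (orderOf_dvd_of_mem_zpowers hh) hg

theorem Reg.conj (hg : Reg p g) (u : G) : Reg p (u * g * u⁻¹) := by
  rwa [Reg, show orderOf (u * g * u⁻¹) = orderOf g from (MulAut.conj u).orderOf_eq g]

theorem PEl.one : PEl r (1 : G) := ⟨0, by simp⟩

theorem PEl.mul (hc : Commute g h) : PEl r g → PEl r h → PEl r (g * h)
  | ⟨i, hi⟩, ⟨j, hj⟩ => ⟨i + j, hc.orderOf_mul_dvd_mul_orderOf.trans (pow_add r i j ▸ mul_dvd_mul hi hj)⟩

theorem PEl.inv : PEl r g → PEl r g⁻¹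
  | ⟨i, hi⟩ => ⟨i, by rwa [orderOf_inv]⟩

theorem PEl.of_mem_zpowers : PEl r g → h ∈ zpowers g → PEl r h
  | ⟨i, hi⟩, hh => ⟨i, (orderOf_dvd_of_mem_zpowers hh).trans hi⟩

theorem PEl.conj (u : G) : PEl r g → PEl r (u * g * u⁻¹)
  | ⟨i, hi⟩ => ⟨i, ((MulAut.conj u).orderOf_eq g).symm ▸ hi⟩

theorem PEl.coprime {s : ℕ} (hr : r.Prime) (hs : s.Prime) (hne : r ≠ s) :
    PEl r g → PEl s h → (orderOf g).Coprime (orderOf h)
  | ⟨i, hi⟩, ⟨j, hj⟩ =>
    (((Nat.coprime_primes hr hs).2 hne).pow i j).coprime_dvd_left hi |>.coprime_dvd_right hj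

theorem PEl.reg (hr : r.Prime) (hp : p.Prime) (hne : r ≠ p) : PEl r g → Reg p g
  | ⟨i, hi⟩ => (((Nat.coprime_primes hr hp).2 hne).pow_left i).coprime_dvd_left hi

theorem pel_of_mem {H : Subgroup G} [Fact r.Prime] (hH : IsPGroup r H) (hg : g ∈ H) : PEl r g := by
  obtain ⟨k, hk⟩ := IsPGroup.iff_orderOf.1 hH ⟨g, hg⟩
  exact ⟨k, by rw [Subgroup.orderOf_mk] at hk; exact hk.dvd⟩

theorem isPGroup_of_pel {H : Subgroup G} [Fact r.Prime] (hH : ∀ g ∈ H, PEl r g) : IsPGroup r H := by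
  refine IsPGroup.iff_orderOf.2 fun g => ?_
  obtain ⟨k, hk⟩ := hH g g.2
  obtain ⟨j, -, hj⟩ := (Nat.dvd_prime_pow Fact.out).1 hk
  exact ⟨j, by rw [← hj, orderOf_coe]⟩

theorem eq_one_of_pel_reg (hg : PEl r g) (hg' : Reg r g) : g = 1 := by
  obtain ⟨i, hi⟩ := hg
  exact orderOf_eq_one_iff.1 ((Nat.coprime_self _).1 ((hg'.symm.pow_left i).coprime_dvd_left hi))

/-- If `u g u⁻¹ = c g` with `c` commuting with `u` and the orders of `u` and `c` coprime. -/
theorem commute_of_conj_eq {c : G} (hcu : Commute c u) (h : u * g * u⁻¹ = c * g)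
    (hcop : (orderOf u).Coprime (orderOf c)) : Commute u g := by
  have hit : ∀ k : ℕ, u ^ k * g * (u ^ k)⁻¹ = c ^ k * g := by
    intro k
    induction k with
    | zero => simp
    | succ k ih =>
      calc u ^ (k + 1) * g * (u ^ (k + 1))⁻¹ = u * (u ^ k * g * (u ^ k)⁻¹) * u⁻¹ := by
            rw [pow_succ']; group
        _ = u * (c ^ k * g) * u⁻¹ := by rw [ih]
        _ = c ^ k * (u * g * u⁻¹) := by rw [← mul_assoc u, (hcu.symm.pow_right k).eq]; group
        _ = c ^ (k + 1) * g := by rw [h, pow_succ, mul_assoc]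
  have h1 := hit (orderOf u)
  rw [pow_orderOf_eq_one, one_mul, inv_one, mul_one, eq_comm, mul_eq_right] at h1
  have h2 : c = 1 := orderOf_eq_one_iff.1
    (Nat.eq_one_of_dvd_coprimes hcop (orderOf_dvd_of_pow_eq_one h1) dvd_rfl)
  rw [h2, one_mul] at h
  exact mul_inv_eq_iff_eq_mul.1 h

theorem mem_elsPart {P : G → Prop} {K : Subgroup G} (h1 : P 1) (hinv : ∀ a, P a → P a⁻¹)
    (hmul : ∀ a b, Commute a b → P a → P b → P (a * b))
    (hcomm : ∀ a ∈ K, ∀ b ∈ K, P a → P b → Commute a b) :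
    g ∈ elsPart P K ↔ g ∈ K ∧ P g := by
  refine ⟨fun hg => ?_, fun hg => subset_closure hg⟩
  induction hg using closure_induction with
  | mem a ha => exact ha
  | one => exact ⟨one_mem K, h1⟩
  | mul a b _ _ ha hb => exact ⟨mul_mem ha.1 hb.1, hmul a b (hcomm a ha.1 b hb.1 ha.2 hb.2) ha.2 hb.2⟩
  | inv a _ ha => exact ⟨inv_mem ha.1, hinv a ha.2⟩

variable [Finite G]

theorem exists_component {K : Subgroup G} (hp : p.Prime) (hg : Reg p g) (hgK : g ∉ K) :
    ∃ r, r.Prime ∧ r ≠ p ∧ ∃ w ∈ zpowers g, PEl r w ∧ w ∉ K := by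
  by_contra hcon
  push Not at hcon
  refine hgK (TwoClassSizes.le_of_primePow_mem (H := zpowers g) (K := K) (fun w hw r hr hk => ?_)
    (mem_zpowers g))
  rcases eq_or_ne r p with rfl | hrp
  · rw [eq_one_of_pel_reg hk (hg.of_mem_zpowers hw)]; exact one_mem K
  · exact hcon r hr hrp w hw hk

/-- A subgroup of order prime to `p` containing the `p`-regular elements of `K`. -/
theorem card_eq_ordCompl {H K : Subgroup G} (hp : p.Prime) (hHK : H ≤ K)
    (hH : ∀ g ∈ H, Reg p g) (hall : ∀ g ∈ K, Reg p g → g ∈ H) :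
    Nat.card H = Nat.card K / p ^ (Nat.card K).factorization p := by
  have hcop : (Nat.card H).Coprime p := by
    rw [Nat.coprime_comm, hp.coprime_iff_not_dvd]
    intro hd
    have := Fact.mk hp
    obtain ⟨g, hg⟩ := exists_prime_orderOf_dvd_card' p hd
    have h1 : (orderOf (g : G)).Coprime p := hH g g.2
    rw [orderOf_coe, hg, Nat.coprime_self] at h1
    exact hp.one_lt.ne' h1
  refine Nat.dvd_antisymm ((Nat.dvd_ordCompl_of_dvd_not_dvd (card_dvd_of_le hHK)
    (hp.coprime_iff_not_dvd.1 hcop.symm))) ?_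
  refine (Nat.dvd_iff_prime_pow_dvd_dvd _ _).2 fun q k hq hqk => ?_
  rcases Nat.eq_zero_or_pos k with rfl | hk
  · simp
  have := Fact.mk hq
  have hqp : q ≠ p := fun e => Nat.not_dvd_ordCompl hp Nat.card_pos.ne'
    (e ▸ (dvd_pow_self q hk.ne').trans hqk)
  obtain ⟨W⟩ := (inferInstance : Nonempty (Sylow q K))
  have hW : (W : Subgroup K).map K.subtype ≤ H := fun w hw =>
    hall w (map_subtype_le _ hw) ((pel_of_mem (W.isPGroup'.map _) hw).reg hq hp hqp)
  refine dvd_trans ?_ (card_dvd_of_le hW)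
  rw [card_map_of_injective K.subtype_injective, W.card_eq_multiplicity]
  exact (Nat.Prime.pow_dvd_iff_dvd_ordProj hq Nat.card_pos.ne').1
    (hqk.trans (Nat.ordCompl_dvd _ _))

end Elements

/-- The standing hypothesis. -/
structure Hyp (G : Type u) [Group G] (p m : ℕ) : Prop where
  prime : p.Prime
  one_lt : 1 < m
  index_eq : ∀ x : G, Reg p x → x ∉ center G → (centralizer ({x} : Set G)).index = m

/-- The primes different from `p` with noncentral elements. -/
def Pi0 (G : Type u) [Group G] (p r : ℕ) : Prop :=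
  r.Prime ∧ r ≠ p ∧ ∃ y : G, PEl r y ∧ y ∉ center G

variable [Finite G] {p m : ℕ} {x y : G}

namespace Hyp

theorem card_eq (h : Hyp G p m) (hx : Reg p x) (hxZ : x ∉ center G) (hy : Reg p y)
    (hyZ : y ∉ center G) : Nat.card C[x] = Nat.card C[y] := by
  have h1 := (C[x]).card_mul_index
  have h2 := (C[y]).card_mul_index
  rw [h.index_eq x hx hxZ] at h1
  rw [h.index_eq y hy hyZ, ← h1] at h2
  exact (Nat.eq_of_mul_eq_mul_right (by have := h.one_lt; omega) h2).symm

theorem eq_of_le (h : Hyp G p m) (hx : Reg p x) (hxZ : x ∉ center G) (hy : Reg p y)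
    (hyZ : y ∉ center G) (hle : C[x] ≤ C[y]) : C[x] = C[y] :=
  eq_of_le_of_card_ge hle (h.card_eq hy hyZ hx hxZ).le

theorem eq_of_commute_coprime (h : Hyp G p m) (hx : Reg p x) (hxZ : x ∉ center G) (hy : Reg p y)
    (hyZ : y ∉ center G) (hxy : Commute x y) (hcop : (orderOf x).Coprime (orderOf y)) :
    C[x] = C[y] := by
  have key : ∀ a b : G, Commute a b → (orderOf a).Coprime (orderOf b) → a ∈ zpowers (a * b) := by
    intro a b hab hc
    obtain ⟨i, hi1, hi2⟩ := Nat.chineseRemainder hc 1 0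
    refine ⟨(i : ℤ), ?_⟩
    show (a * b) ^ (i : ℤ) = a
    rw [zpow_natCast, hab.mul_pow, pow_eq_pow_iff_modEq.mpr hi1, pow_eq_pow_iff_modEq.mpr hi2]
    simp
  have hx' : x ∈ zpowers (x * y) := key x y hxy hcop
  have hy' : y ∈ zpowers (x * y) := hxy.eq ▸ key y x hxy.symm hcop.symm
  have hxyZ : x * y ∉ center G := fun hz => hxZ (zpowers_le.2 hz hx')
  rw [← h.eq_of_le (hx.mul hxy hy) hxyZ hx hxZ (TwoClassSizes.centralizer_le_of_mem_zpowers hx'),
    ← h.eq_of_le (hx.mul hxy hy) hxyZ hy hyZ (TwoClassSizes.centralizer_le_of_mem_zpowers hy')]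

theorem exists_noncentral (h : Hyp G p m) {q : ℕ} (hq : Pi0 G p q) (hx : Reg p x)
    (hxZ : x ∉ center G) : ∃ y, PEl q y ∧ y ∉ center G ∧ y ∈ C[x] := by
  obtain ⟨hqp, hne, a, ha, haZ⟩ := hq
  have := Fact.mk hqp
  by_contra hcon
  push Not at hcon
  obtain ⟨W⟩ := (inferInstance : Nonempty (Sylow q C[x]))
  set W' := (W : Subgroup C[x]).map C[x].subtype with hW'
  have hW'Z : W' ≤ center G := fun t ht => by
    by_contra htZ
    exact hcon t (pel_of_mem (W.isPGroup'.map _) ht) htZ (map_subtype_le _ ht)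
  have : W'.Normal := ⟨fun z hz g => by
    rw [mem_center_iff.1 (hW'Z hz) g, mul_inv_cancel_right]; exact hz⟩
  have hSp : IsPGroup q (W' ⊔ zpowers a : Subgroup G) :=
    (W.isPGroup'.map _).to_sup_of_normal_left (TwoClassSizes.Normal.isPGroup_zpowers ha)
  have hlt : Nat.card W' < Nat.card (W' ⊔ zpowers a : Subgroup G) :=
    lt_of_le_of_ne (card_le_of_le le_sup_left) fun e =>
      haZ (hW'Z ((eq_of_le_of_card_ge le_sup_left e.ge).ge (mem_sup_right (mem_zpowers a))))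
  obtain ⟨i, hi⟩ := IsPGroup.iff_card.1 hSp
  have hle : W' ⊔ zpowers a ≤ C[a] :=
    sup_le (hW'Z.trans (center_le_centralizer _)) (zpowers_le.2 (self_mem_cent a))
  have hdvd : q ^ i ∣ Nat.card C[x] := by
    rw [h.card_eq hx hxZ (ha.reg hqp h.prime hne) haZ, ← hi]; exact card_dvd_of_le hle
  have h2 : Nat.card (W' ⊔ zpowers a : Subgroup G) ∣ Nat.card W' := by
    rw [hi, hW', card_map_of_injective C[x].subtype_injective, W.card_eq_multiplicity]
    exact (Nat.Prime.pow_dvd_iff_dvd_ordProj hqp Nat.card_pos.ne').1 hdvd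
  exact absurd (Nat.le_of_dvd Nat.card_pos h2) (by omega)

/-- With two primes in `Pi0`, commuting noncentral regular elements have the same centralizer. -/
theorem eq_of_commute (h : Hyp G p m) (htwo : ∀ r, ∃ q, q ≠ r ∧ Pi0 G p q) (hx : Reg p x)
    (hxZ : x ∉ center G) (hy : Reg p y) (hyZ : y ∉ center G) (hxy : Commute x y) :
    C[x] = C[y] := by
  obtain ⟨r, hr, hrp, w, hwx, hwr, hwZ⟩ := exists_component h.prime hx hxZ
  obtain ⟨q, hqr, hq⟩ := htwo r
  have hw := hwr.reg hr h.prime hrp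
  have hCxw : C[x] = C[w] :=
    h.eq_of_le hx hxZ hw hwZ (TwoClassSizes.centralizer_le_of_mem_zpowers hwx)
  obtain ⟨v, hvq, hvZ, hvw⟩ := h.exists_noncentral hq hw hwZ
  have hv := hvq.reg hq.1 h.prime hq.2.1
  have hCwv : C[w] = C[v] := h.eq_of_commute_coprime hw hwZ hv hvZ (mem_cent.1 hvw).symm
    (hwr.coprime hr hq.1 (Ne.symm hqr) hvq)
  have key : ∀ e ∈ C[w], ∀ s, s.Prime → s ≠ p → PEl s e → e ∉ center G → C[w] = C[e] := by
    intro e he s hs hsp hes heZ
    have he' := hes.reg hs h.prime hsp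
    rcases eq_or_ne s r with rfl | hsr
    · rw [hCwv] at he ⊢
      exact h.eq_of_commute_coprime hv hvZ he' heZ (mem_cent.1 he).symm
        (hvq.coprime hq.1 hs hqr hes)
    · exact h.eq_of_commute_coprime hw hwZ he' heZ (mem_cent.1 he).symm
        (hwr.coprime hr hs (Ne.symm hsr) hes)
  obtain ⟨s, hs, hsp, e, hey, hes, heZ⟩ := exists_component h.prime hy hyZ
  have hyw : y ∈ C[w] := hCxw ▸ mem_cent.2 hxy.symm.eq
  rw [hCxw, key e (zpowers_le.2 hyw hey) s hs hsp hes heZ]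
  exact (h.eq_of_le hy hyZ (hes.reg hs h.prime hsp) heZ
    (TwoClassSizes.centralizer_le_of_mem_zpowers hey)).symm

end Hyp

/-- The main case. -/
structure Hyp2 (G : Type u) [Group G] (p m : ℕ) : Prop extends Hyp G p m where
  two : ∀ r, ∃ q, q ≠ r ∧ Pi0 G p q

namespace Hyp2

variable {r : ℕ} {g u v : G}

theorem cent_eq (h : Hyp2 G p m) (hx : Reg p x) (hxZ : x ∉ center G) (hy : Reg p y)
    (hyZ : y ∉ center G) (hyx : y ∈ C[x]) : C[y] = C[x] :=
  (h.toHyp.eq_of_commute h.two hx hxZ hy hyZ (mem_cent.1 hyx).symm).symm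

theorem commute_of_mem (h : Hyp2 G p m) (hx : Reg p x) (hxZ : x ∉ center G) {a b : G}
    (ha : a ∈ C[x]) (hb : b ∈ C[x]) (har : Reg p a) (_hbr : Reg p b) : Commute a b := by
  by_cases haZ : a ∈ center G
  · exact (mem_center_iff.1 haZ b).symm
  · rw [← h.cent_eq hx hxZ har haZ ha] at hb
    exact (mem_cent.1 hb).symm

theorem mem_part (h : Hyp2 G p m) (hx : Reg p x) (hxZ : x ∉ center G) (hr : r.Prime)
    (hrp : r ≠ p) : g ∈ part r x ↔ g ∈ C[x] ∧ PEl r g :=
  mem_elsPart PEl.one (fun _ => PEl.inv) (fun _ _ hc => PEl.mul hc) fun _ ha _ hb ha' hb' =>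
    h.commute_of_mem hx hxZ ha hb (ha'.reg hr h.prime hrp) (hb'.reg hr h.prime hrp)

theorem mem_regC (h : Hyp2 G p m) (hx : Reg p x) (hxZ : x ∉ center G) :
    g ∈ regC p x ↔ g ∈ C[x] ∧ Reg p g :=
  mem_elsPart Reg.one (fun _ => Reg.inv) (fun _ _ hc => Reg.mul hc) fun _ ha _ hb ha' hb' =>
    h.commute_of_mem hx hxZ ha hb ha' hb'

theorem part_le (h : Hyp2 G p m) (hx : Reg p x) (hxZ : x ∉ center G) (hr : r.Prime) (hrp : r ≠ p) :
    part r x ≤ C[x] := fun _ hg => ((h.mem_part hx hxZ hr hrp).1 hg).1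

theorem isPGroup_part (h : Hyp2 G p m) (hx : Reg p x) (hxZ : x ∉ center G) (hr : r.Prime)
    (hrp : r ≠ p) : IsPGroup r (part r x) :=
  have := Fact.mk hr
  isPGroup_of_pel fun _ hg => ((h.mem_part hx hxZ hr hrp).1 hg).2

theorem card_part (h : Hyp2 G p m) (hx : Reg p x) (hxZ : x ∉ center G) (hr : r.Prime)
    (hrp : r ≠ p) : Nat.card (part r x) = r ^ (Nat.card C[x]).factorization r := by
  have := Fact.mk hr
  obtain ⟨i, hi⟩ := IsPGroup.iff_card.1 (h.isPGroup_part hx hxZ hr hrp)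
  refine Nat.dvd_antisymm ?_ ?_
  · rw [hi]
    exact (Nat.Prime.pow_dvd_iff_dvd_ordProj hr Nat.card_pos.ne').1
      (hi ▸ card_dvd_of_le (h.part_le hx hxZ hr hrp))
  · obtain ⟨W⟩ := (inferInstance : Nonempty (Sylow r C[x]))
    rw [← W.card_eq_multiplicity, ← card_map_of_injective C[x].subtype_injective]
    exact card_dvd_of_le fun w hw =>
      (h.mem_part hx hxZ hr hrp).2 ⟨map_subtype_le _ hw, pel_of_mem (W.isPGroup'.map _) hw⟩

theorem exists_mem_part (h : Hyp2 G p m) (hx : Reg p x) (hxZ : x ∉ center G) (hr : Pi0 G p r) :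
    ∃ w ∈ part r x, w ∉ center G := by
  obtain ⟨w, hw, hwZ, hwx⟩ := h.toHyp.exists_noncentral hr hx hxZ
  exact ⟨w, (h.mem_part hx hxZ hr.1 hr.2.1).2 ⟨hwx, hw⟩, hwZ⟩

theorem cent_part (h : Hyp2 G p m) (hx : Reg p x) (hxZ : x ∉ center G) (hr : r.Prime)
    (hrp : r ≠ p) (hg : g ∈ part r x) (hgZ : g ∉ center G) : C[g] = C[x] :=
  have h1 := (h.mem_part hx hxZ hr hrp).1 hg
  h.cent_eq hx hxZ (h1.2.reg hr h.prime hrp) hgZ h1.1

theorem central_of_mem_two (h : Hyp2 G p m) (hx : Reg p x) (hxZ : x ∉ center G) (hv : Reg p v)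
    (hvx : v ∉ C[x]) (hy : Reg p y) (hyx : y ∈ C[x]) (hyv : y ∈ C[v]) : y ∈ center G := by
  by_contra hyZ
  refine hvx ?_
  have hvZ : v ∉ center G := fun hz => hvx (center_le_centralizer _ hz)
  rw [← h.cent_eq hx hxZ hy hyZ hyx, h.cent_eq hv hvZ hy hyZ hyv]
  exact self_mem_cent v

theorem mem_normalizer (h : Hyp2 G p m) (hx : Reg p x) (hxZ : x ∉ center G) {w : G} (hw : Reg p w)
    (hwZ : w ∉ center G) (hwx : w ∈ C[x]) (hu : u * w * u⁻¹ ∈ C[x]) :
    u ∈ normalizer (C[x] : Set G) := by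
  have h1 : C[u * w * u⁻¹] = C[x] :=
    h.cent_eq hx hxZ (hw.conj u) (fun e => hwZ (conj_mem_center.1 e)) hu
  have h2 : C[w] = C[x] := h.cent_eq hx hxZ hw hwZ hwx
  rw [mem_normalizer_iff]
  intro g
  show g ∈ C[x] ↔ u * g * u⁻¹ ∈ C[x]
  conv_rhs => rw [← h1]
  rw [mem_cent_conj, h2]

theorem conj_mem_part (h : Hyp2 G p m) (hx : Reg p x) (hxZ : x ∉ center G) (hr : r.Prime)
    (hrp : r ≠ p) (hu : u ∈ normalizer (C[x] : Set G)) (hg : g ∈ part r x) :
    u * g * u⁻¹ ∈ part r x := by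
  rw [h.mem_part hx hxZ hr hrp] at hg ⊢
  exact ⟨(mem_normalizer_iff.1 hu g).1 hg.1, hg.2.conj u⟩

theorem commute_part (h : Hyp2 G p m) (hx : Reg p x) (hxZ : x ∉ center G) (hr : r.Prime)
    (hrp : r ≠ p) {a b : G} (ha : a ∈ part r x) (hb : b ∈ C[x]) : Commute a b := by
  by_cases haZ : a ∈ center G
  · exact (mem_center_iff.1 haZ b).symm
  · rw [← h.cent_part hx hxZ hr hrp ha haZ] at hb
    exact (mem_cent.1 hb).symm

end Hyp2

end Cfsg.Agent.TwoRegSizes
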