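import Cfsg.Agent.TwoRegSizes.Fixed
import Cfsg.Agent.FrobeniusCount
import Mathlib.GroupTheory.IndexNormal

/-!
A prime different from `p` divides the class size at most once.
-/

set_option autoImplicit false
set_option linter.unusedSectionVars false

namespace Cfsg.Agent.TwoRegSizes

open Subgroup
open Cfsg.Agent.TwoClassSizes.Normal (mem_cent self_mem_cent mem_cent_symm mem_cent_conj
  conj_mem_center orderOf_conj)

universe u

variable {G : Type u} [Group G] [Finite G] {p m r : ℕ} {x : G}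

local notation "C[" x "]" => Subgroup.centralizer ({x} : Set _)

theorem cent_map_conj (g x : G) : (C[x]).map (MulAut.conj g).toMonoidHom = C[g * x * g⁻¹] := by
  ext a
  constructor
  · rintro ⟨b, hb, rfl⟩
    exact mem_cent_conj.2 hb
  · intro ha
    refine ⟨g⁻¹ * a * g, ?_, by simp [mul_assoc]⟩
    exact mem_cent_conj.1 (show g * (g⁻¹ * a * g) * g⁻¹ ∈ C[g * x * g⁻¹] by simpa [mul_assoc] using ha)

theorem mem_center_of_not_pi0 (hr : r.Prime) (hrp : r ≠ p) (h : ¬ Pi0 G p r) {g : G}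
    (hg : PEl r g) : g ∈ center G := by
  by_contra hgZ
  exact h ⟨hr, hrp, g, hg, hgZ⟩

theorem Hyp.pi0_of_dvd (h : Hyp G p m) (hx : Reg p x) (hxZ : x ∉ center G) (hr : r.Prime)
    (hrp : r ≠ p) (hd : r ∣ m) : Pi0 G p r := by
  by_contra hno
  have := Fact.mk hr
  obtain ⟨R⟩ := (inferInstance : Nonempty (Sylow r G))
  refine R.not_dvd_index (hd.trans ?_)
  rw [← h.index_eq x hx hxZ]
  exact index_dvd_of_le fun g hg =>
    center_le_centralizer _ (mem_center_of_not_pi0 hr hrp hno (pel_of_mem R.isPGroup' hg))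

namespace Hyp2

variable {g u : G}

theorem card_mul (h : Hyp2 G p m) (hx : Reg p x) (hxZ : x ∉ center G) :
    Nat.card C[x] * m = Nat.card G := by
  rw [← h.index_eq x hx hxZ]
  exact card_mul_index _

theorem factorization_card (h : Hyp2 G p m) (hx : Reg p x) (hxZ : x ∉ center G) (r : ℕ) :
    (Nat.card G).factorization r = (Nat.card C[x]).factorization r + m.factorization r := by
  rw [← h.card_mul hx hxZ, Nat.factorization_mul Nat.card_pos.ne' (by have := h.one_lt; omega),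
    Finsupp.add_apply]

theorem factorization_le_one (h : Hyp2 G p m) (hr : r.Prime) (hrp : r ≠ p) :
    m.factorization r ≤ 1 := by
  classical
  by_contra hbig
  have hrm : r ∣ m := Nat.dvd_of_factorization_pos (by omega)
  have := Fact.mk hr
  have hm0 : m ≠ 0 := by have := h.one_lt; omega
  obtain ⟨R⟩ := (inferInstance : Nonempty (Sylow r G))
  let 𝒞 := {H : Subgroup G // ∃ x, Reg p x ∧ x ∉ center G ∧ C[x] = H}
  let act : MulAction (R : Subgroup G) 𝒞 :=
    { smul := fun u H => ⟨H.1.map (MulAut.conj (u : G)).toMonoidHom, by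
        obtain ⟨x, hx, hxZ, e⟩ := H.2
        exact ⟨u * x * (u : G)⁻¹, hx.conj u, fun hz => hxZ (conj_mem_center.1 hz),
          by rw [← e, cent_map_conj]⟩⟩
      one_smul := fun H => Subtype.ext (by
        show H.1.map (MulAut.conj ((1 : (R : Subgroup G)) : G)).toMonoidHom = H.1
        rw [coe_one, map_one]
        exact map_id _)
      mul_smul := fun a b H => Subtype.ext (by
        show H.1.map (MulAut.conj ((a * b : (R : Subgroup G)) : G)).toMonoidHom =
          (H.1.map (MulAut.conj (b : G)).toMonoidHom).map (MulAut.conj (a : G)).toMonoidHom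
        rw [map_map, coe_mul, map_mul]
        rfl) }
  have hnofix : IsEmpty (MulAction.fixedPoints (R : Subgroup G) 𝒞) := by
    refine ⟨fun ⟨⟨H, x, hx, hxZ, e⟩, hH⟩ => ?_⟩
    subst e
    have hRN : (R : Subgroup G) ≤ normalizer (C[x] : Set G) := fun u hu => by
      have h1 : (C[x]).map (MulAut.conj u).toMonoidHom = C[x] :=
        congrArg Subtype.val (hH ⟨u, hu⟩)
      exact h.mem_normalizer hx hxZ hx hxZ (self_mem_cent x)
        (h1 ▸ ⟨x, self_mem_cent x, rfl⟩ : u * x * u⁻¹ ∈ C[x])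
    obtain ⟨i, -, hi⟩ := (Nat.dvd_prime_pow hr).1 (R.card_eq_multiplicity ▸
      card_dvd_of_le (inf_le_right : C[x] ⊓ (R : Subgroup G) ≤ _))
    have hile : i ≤ (Nat.card C[x]).factorization r :=
      (hr.pow_dvd_iff_le_factorization Nat.card_pos.ne').1 (hi ▸ card_dvd_of_le inf_le_left)
    have h2 : Nat.card (C[x] ⊓ (R : Subgroup G) : Subgroup G) * (C[x]).relIndex R = Nat.card R := by
      rw [← inf_relIndex_right C[x] (R : Subgroup G), ← relIndex_bot_left,
        relIndex_mul_relIndex ⊥ _ _ bot_le inf_le_right, relIndex_bot_left]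
    have h3 := mul_dvd_mul_left (r ^ i) (h.relIndex_dvd hx hxZ hr hrp R.isPGroup' hRN)
    rw [hi, R.card_eq_multiplicity] at h2
    rw [h2, ← pow_succ, Nat.pow_dvd_pow_iff_le_right hr.one_lt, h.factorization_card hx hxZ r] at h3
    omega
  have hk : r ∣ Nat.card 𝒞 := by
    have h1 := (R.isPGroup').card_modEq_card_fixedPoints 𝒞
    rw [Nat.card_of_isEmpty (α := MulAction.fixedPoints (R : Subgroup G) 𝒞)] at h1
    exact Nat.modEq_zero_iff_dvd.1 h1
  -- counting
  set n := Nat.card G / p ^ (Nat.card G).factorization p with hn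
  have hreg : ∀ g : G, g ^ n = 1 ↔ Reg p g := by
    refine fun g => ⟨fun e => ?_, fun e => orderOf_dvd_iff_pow_eq_one.1 ?_⟩
    · exact (h.prime.coprime_iff_not_dvd.2
        (Nat.not_dvd_ordCompl h.prime Nat.card_pos.ne')).symm.coprime_dvd_left
          (orderOf_dvd_of_pow_eq_one e)
    · exact Nat.dvd_ordCompl_of_dvd_not_dvd (orderOf_dvd_natCard g)
        (h.prime.coprime_iff_not_dvd.1 (Nat.Coprime.symm e))
  have hcount : n ∣ Nat.card {g : G // Reg p g} := by
    rw [← Nat.card_congr (Equiv.subtypeEquivRight hreg)]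
    exact FrobeniusCount.dvd_card_pow_eq_one (Nat.ordCompl_dvd _ _)
  set Zp := elsPart (Reg p) (center G) with hZp
  have hmemZ : ∀ g : G, g ∈ Zp ↔ g ∈ center G ∧ Reg p g := fun g =>
    mem_elsPart Reg.one (fun _ => Reg.inv) (fun _ _ hc => Reg.mul hc)
      fun a ha b _ _ _ => (mem_center_iff.1 ha b).symm
  obtain ⟨x₀, hx₀, hx₀Z⟩ : ∃ x : G, Reg p x ∧ x ∉ center G := by
    obtain ⟨q, -, hq1, hq2, y, hy, hyZ⟩ := h.two r
    exact ⟨y, hy.reg hq1 h.prime hq2, hyZ⟩
  set hh := Nat.card (regC p x₀) with hhh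
  have hfib : ∀ H : 𝒞, Nat.card {g : {g : G // Reg p g ∧ g ∉ center G} // C[g.1] = H.1} =
      hh - Nat.card Zp := by
    rintro ⟨H, x, hx, hxZ, rfl⟩
    have hle : Zp ≤ regC p x := fun g hg => (h.mem_regC hx hxZ).2
      ⟨center_le_centralizer _ ((hmemZ g).1 hg).1, ((hmemZ g).1 hg).2⟩
    have hcard : Nat.card (regC p x) = hh := by
      rw [hhh]
      simp only [card_eq_ordCompl h.prime (K := C[x]) (H := regC p x)
        (fun g hg => ((h.mem_regC hx hxZ).1 hg).1) (fun g hg => ((h.mem_regC hx hxZ).1 hg).2)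
        (fun g hg hr => (h.mem_regC hx hxZ).2 ⟨hg, hr⟩),
        card_eq_ordCompl h.prime (K := C[x₀]) (H := regC p x₀)
        (fun g hg => ((h.mem_regC hx₀ hx₀Z).1 hg).1) (fun g hg => ((h.mem_regC hx₀ hx₀Z).1 hg).2)
        (fun g hg hr => (h.mem_regC hx₀ hx₀Z).2 ⟨hg, hr⟩),
        h.toHyp.card_eq hx hxZ hx₀ hx₀Z]
    calc Nat.card {g : {g : G // Reg p g ∧ g ∉ center G} // C[g.1] = C[x]}
        = Nat.card ↥((regC p x : Set G) \ (Zp : Set G)) := by
          refine Nat.card_congr ((Equiv.subtypeSubtypeEquivSubtypeInter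
            (fun g : G => Reg p g ∧ g ∉ center G) (fun g => C[g] = C[x])).trans
            (Equiv.subtypeEquivRight fun g => ?_))
          rw [Set.mem_sdiff, SetLike.mem_coe, SetLike.mem_coe, h.mem_regC hx hxZ, hmemZ]
          constructor
          · rintro ⟨⟨hg, hgZ⟩, e⟩
            exact ⟨⟨e ▸ self_mem_cent g, hg⟩, fun hh => hgZ hh.1⟩
          · rintro ⟨⟨hgx, hg⟩, hgZ⟩
            have hgZ' : g ∉ center G := fun hz => hgZ ⟨hz, hg⟩
            exact ⟨⟨hg, hgZ'⟩, h.cent_eq hx hxZ hg hgZ' hgx⟩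
      _ = hh - Nat.card Zp := by
          rw [Nat.card_coe_set_eq, Set.ncard_sdiff (fun g hg => hle hg), ← Nat.card_coe_set_eq,
            ← Nat.card_coe_set_eq]
          exact congrArg (· - _) hcard
  let f : {g : G // Reg p g ∧ g ∉ center G} → 𝒞 := fun g => ⟨C[g.1], g.1, g.2.1, g.2.2, rfl⟩
  have hnon : Nat.card {g : G // Reg p g ∧ g ∉ center G} = Nat.card 𝒞 * (hh - Nat.card Zp) := by
    have := Fintype.ofFinite 𝒞
    rw [← Nat.card_congr (Equiv.sigmaFiberEquiv f), Nat.card_sigma,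
      Finset.sum_congr rfl fun H _ => (Nat.card_congr (Equiv.subtypeEquivRight fun g => by
        exact ⟨fun e => congrArg Subtype.val e, fun e => Subtype.ext e⟩)).trans (hfib H),
      Finset.sum_const, smul_eq_mul, Finset.card_univ, ← Nat.card_eq_fintype_card]
  have htot : Nat.card {g : G // Reg p g} =
      Nat.card Zp + Nat.card 𝒞 * (hh - Nat.card Zp) := by
    rw [← hnon, ← Nat.card_congr (Equiv.sumCompl fun g : {g : G // Reg p g} => g.1 ∈ center G),
      Nat.card_sum]
    congr 1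
    · exact Nat.card_congr ((Equiv.subtypeSubtypeEquivSubtypeInter (Reg p) (· ∈ center G)).trans
        (Equiv.subtypeEquivRight fun g => by rw [hmemZ, and_comm]))
    · exact Nat.card_congr (Equiv.subtypeSubtypeEquivSubtypeInter (Reg p) (fun g => ¬g ∈ center G))
  have hle0 : Zp ≤ regC p x₀ := fun g hg => (h.mem_regC hx₀ hx₀Z).2
    ⟨center_le_centralizer _ ((hmemZ g).1 hg).1, ((hmemZ g).1 hg).2⟩
  have hzh : Nat.card Zp ∣ hh := card_dvd_of_le hle0
  have hrz : r * Nat.card Zp ∣ n := by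
    rw [hn, ← h.card_mul hx₀ hx₀Z, Nat.ordCompl_mul, mul_comm r]
    refine mul_dvd_mul ?_ (Nat.dvd_ordCompl_of_dvd_not_dvd hrm fun hd =>
      hrp ((Nat.prime_dvd_prime_iff_eq h.prime hr).1 hd).symm)
    rw [hhh, card_eq_ordCompl h.prime (K := C[x₀]) (H := regC p x₀)
      (fun g hg => ((h.mem_regC hx₀ hx₀Z).1 hg).1) (fun g hg => ((h.mem_regC hx₀ hx₀Z).1 hg).2)
      (fun g hg hr => (h.mem_regC hx₀ hx₀Z).2 ⟨hg, hr⟩)] at hzh
    exact hzh
  have h2 : r * Nat.card Zp ∣ Nat.card 𝒞 * (hh - Nat.card Zp) :=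
    mul_dvd_mul hk (Nat.dvd_sub hzh dvd_rfl)
  have h3 := hrz.trans hcount
  rw [htot, ← Nat.dvd_add_iff_left h2] at h3
  have h4 := Nat.le_of_dvd Nat.card_pos h3
  have := hr.one_lt
  have : 0 < Nat.card Zp := Nat.card_pos
  nlinarith

theorem sylow_structure (h : Hyp2 G p m) (hx : Reg p x) (hxZ : x ∉ center G) (hr : Pi0 G p r) :
    ∃ R : Subgroup G, (∃ S : Sylow r G, (S : Subgroup G) = R) ∧ part r x ≤ R ∧
      R ≤ normalizer (C[x] : Set G) ∧ (∀ g ∈ R, g ∈ C[x] → g ∈ part r x) ∧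
      (part r x).relIndex R = r ^ m.factorization r := by
  obtain ⟨hrp, hne, -⟩ := id hr
  have := Fact.mk hrp
  have hP := h.isPGroup_part hx hxZ hrp hne
  obtain ⟨R, hR⟩ := hP.exists_le_sylow
  have hrel : (part r x).relIndex R = r ^ m.factorization r := by
    have h2 : Nat.card (part r x) * (part r x).relIndex R = Nat.card R := by
      rw [← relIndex_bot_left, relIndex_mul_relIndex ⊥ _ _ bot_le hR, relIndex_bot_left]
    rw [R.card_eq_multiplicity, h.card_part hx hxZ hrp hne, h.factorization_card hx hxZ r,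
      pow_add] at h2
    exact Nat.eq_of_mul_eq_mul_left (pow_pos hrp.pos _) h2
  refine ⟨R, ⟨R, rfl⟩, hR, fun u hu => ?_,
    fun g hg hgx => (h.mem_part hx hxZ hrp hne).2 ⟨hgx, pel_of_mem R.isPGroup' hg⟩, hrel⟩
  obtain ⟨w, hw, hwZ⟩ := h.exists_mem_part hx hxZ hr
  have hw' := (h.mem_part hx hxZ hrp hne).1 hw
  have hnormal : ((part r x).subgroupOf (R : Subgroup G)).Normal := by
    rcases Nat.le_one_iff_eq_zero_or_eq_one.1 (h.factorization_le_one hrp hne) with e | e
    · rw [e, pow_zero, relIndex_eq_one] at hrel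
      rw [(subgroupOf_eq_top).2 hrel]
      infer_instance
    · rw [e, pow_one] at hrel
      refine normal_of_index_eq_minFac_card ?_
      show (part r x).relIndex R = _
      rw [hrel, R.card_eq_multiplicity, Nat.Prime.pow_minFac hrp]
      rw [h.factorization_card hx hxZ r, e]
      omega
  have h2 := hnormal.conj_mem ⟨w, hR hw⟩ hw ⟨u, hu⟩
  exact h.mem_normalizer hx hxZ (hw'.2.reg hrp h.prime hne) hwZ hw'.1
    (h.part_le hx hxZ hrp hne h2)

theorem exists_outside (h : Hyp2 G p m) (hx : Reg p x) (hxZ : x ∉ center G) (hr : r.Prime)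
    (hrp : r ≠ p) (hd : r ∣ m) :
    ∃ R : Subgroup G, (∃ S : Sylow r G, (S : Subgroup G) = R) ∧ part r x ≤ R ∧
      R ≤ normalizer (C[x] : Set G) ∧ ∃ u ∈ R, u ∉ C[x] ∧ R ≤ zpowers u ⊔ part r x := by
  have hr0 := h.toHyp.pi0_of_dvd hx hxZ hr hrp hd
  obtain ⟨R, hS, hle, hN, hmem, hrel⟩ := h.sylow_structure hx hxZ hr0
  have hm1 : m.factorization r = 1 := le_antisymm (h.factorization_le_one hr hrp)
    (hr.factorization_pos_of_dvd (by have := h.one_lt; omega) hd)
  rw [hm1, pow_one] at hrel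
  obtain ⟨u, huR, hu⟩ : ∃ u ∈ R, u ∉ part r x := by
    by_contra hall
    push Not at hall
    rw [relIndex_eq_one.2 (show R ≤ part r x from hall)] at hrel
    exact hr.one_lt.ne hrel
  refine ⟨R, hS, hle, hN, u, huR, fun huC => hu (hmem u huR huC), ?_⟩
  set T := zpowers u ⊔ part r x
  have hTR : T ≤ R := sup_le (zpowers_le.2 huR) hle
  have h2 := relIndex_mul_relIndex (part r x) T R le_sup_right hTR
  rw [hrel] at h2
  rcases (Nat.dvd_prime hr).1 (Dvd.intro _ h2) with e | e
  · exact absurd (relIndex_eq_one.1 e (mem_sup_left (mem_zpowers u))) hu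
  · rw [e] at h2
    exact relIndex_eq_one.1 ((Nat.mul_eq_left hr.ne_zero).1 h2)

theorem not_dvd_index_normalizer (h : Hyp2 G p m) (hx : Reg p x) (hxZ : x ∉ center G)
    (hr : r.Prime) (hrp : r ≠ p) : ¬ r ∣ (normalizer (C[x] : Set G)).index := by
  have := Fact.mk hr
  intro hd
  by_cases hr0 : Pi0 G p r
  · obtain ⟨R, ⟨S, rfl⟩, -, hN, -⟩ := h.sylow_structure hx hxZ hr0
    exact S.not_dvd_index (hd.trans (index_dvd_of_le hN))
  · obtain ⟨S⟩ := (inferInstance : Nonempty (Sylow r G))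
    exact S.not_dvd_index (hd.trans (index_dvd_of_le fun g hg => le_normalizer
      (center_le_centralizer _ (mem_center_of_not_pi0 hr hrp hr0 (pel_of_mem S.isPGroup' hg)))))

end Hyp2

end Cfsg.Agent.TwoRegSizes
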