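import Cfsg.Agent.TwoRegSizes.Basic
import Cfsg.Agent.Fusion.PGroup
import Mathlib.Algebra.BigOperators.Fin
import Mathlib.Data.ZMod.Basic
import Mathlib.Algebra.Field.ZMod

/-!
The normalizer of a centralizer modulo the centralizer.
-/

set_option autoImplicit false
set_option linter.unusedSectionVars false

namespace Cfsg.Agent.TwoRegSizes

open Subgroup
open Cfsg.Agent.TwoClassSizes.Normal (mem_cent self_mem_cent mem_cent_symm mem_cent_conj
  conj_mem_center orderOf_conj)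

universe u

/-- A group of type `r × r` acting on an abelian group, all of whose nontrivial cyclic subgroups
have fixed points in `Z` only. -/
theorem pow_mem_of_fixed {A : Type*} [CommGroup A] {Q : Type*} [Group Q] {r : ℕ} [hr : Fact r.Prime]
    (ρ : Q →* MulAut A) (Z : Subgroup A) (hZ : ∀ g : Q, ∀ z ∈ Z, ρ g z = z)
    {U V : Q} (hUV : Commute U V) (hU : U ^ r = 1) (hV : V ^ r = 1)
    (hfix : ∀ j : ℕ, ∀ a, ρ (U * V ^ j) a = a → a ∈ Z) (hfixV : ∀ a, ρ V a = a → a ∈ Z) (a : A) :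
    a ^ r ∈ Z := by
  classical
  have hval : ∀ {g : Q}, g ^ r = 1 → ∀ i j : ZMod r, g ^ (i + j).val = g ^ i.val * g ^ j.val := by
    intro g hg i j
    rw [← pow_add, ZMod.val_add, ← pow_eq_pow_mod _ hg]
  set F : ZMod r → ZMod r → A := fun i k => ρ (U ^ i.val * V ^ k.val) a with hF
  have hshift : ∀ i k i' k' : ZMod r,
      F (i + i') (k + k') = ρ (U ^ i'.val * V ^ k'.val) (F i k) := by
    intro i k i' k'
    rw [← MulAut.mul_apply, ← map_mul, add_comm i, add_comm k, hF]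
    simp only [hval hU, hval hV]
    rw [mul_assoc, mul_assoc, ← mul_assoc (U ^ i.val), (hUV.pow_pow i.val k'.val).eq, mul_assoc]
  have hone : (1 : ZMod r).val = 1 := ZMod.val_one r
  have hN : ∀ j : ZMod r, ∏ i, F i (i * j) ∈ Z := fun j => by
    refine hfix j.val _ ?_
    rw [map_prod]
    conv_rhs => rw [← Equiv.prod_comp (Equiv.addRight (1 : ZMod r))]
    refine Finset.prod_congr rfl fun i _ => ?_
    rw [Equiv.coe_addRight, add_one_mul, hshift, hone, pow_one]
  have hN' : ∏ k, F 0 k ∈ Z := by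
    refine hfixV _ ?_
    rw [map_prod]
    conv_rhs => rw [← Equiv.prod_comp (Equiv.addRight (1 : ZMod r))]
    refine Finset.prod_congr rfl fun k _ => ?_
    have h := hshift 0 k 0 1
    rw [add_zero, ZMod.val_zero, pow_zero, one_mul, hone, pow_one] at h
    exact h.symm
  have hrow : ∀ i : ZMod r, ∏ k, F i k = ∏ k, F 0 k := fun i => by
    conv_rhs => rw [← hZ (U ^ i.val) _ hN', map_prod]
    refine Finset.prod_congr rfl fun k _ => ?_
    have h := hshift 0 k i 0
    rw [zero_add, add_zero, ZMod.val_zero, pow_zero, mul_one] at h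
    exact h
  have htot : ∏ i, ∏ j, F i (i * j) ∈ Z := by
    rw [Finset.prod_comm]
    exact prod_mem fun j _ => hN j
  rw [← Finset.mul_prod_erase _ _ (Finset.mem_univ (0 : ZMod r))] at htot
  have hrest : ∏ i ∈ Finset.univ.erase (0 : ZMod r), ∏ j, F i (i * j) ∈ Z := by
    refine prod_mem fun i hi => ?_
    have hi0 : i ≠ 0 := (Finset.mem_erase.1 hi).1
    have h1 : ∏ j, F i (i * j) = ∏ k, F i k := Equiv.prod_comp (Equiv.mulLeft₀ i hi0) (F i)
    rw [h1, hrow]
    exact hN'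
  have h0 := (mul_mem_cancel_right hrest).1 htot
  simpa [hF] using h0

variable {G : Type u} [Group G] [Finite G] {p m r : ℕ} {x : G}

local notation "C[" x "]" => Subgroup.centralizer ({x} : Set _)

theorem Hyp2.exists_fixed (h : Hyp2 G p m) (hx : Reg p x) (hxZ : x ∉ center G) (hr : Pi0 G p r)
    {R : Subgroup G} (hR : IsPGroup r R) (hRN : R ≤ normalizer (C[x] : Set G)) :
    ∃ z ∈ part r x, z ∉ center G ∧ z ^ r ∈ center G ∧
      ∀ u ∈ R, u * z * u⁻¹ * z⁻¹ ∈ center G := by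
  obtain ⟨hrp, hne, -⟩ := id hr
  have := Fact.mk hrp
  set π := QuotientGroup.mk' (center G) with hπ
  have hker : ∀ a : G, π a = 1 ↔ a ∈ center G := fun a => QuotientGroup.eq_one_iff a
  set P := part r x with hP
  have hnorm : R ≤ normalizer (P : Set G) := fun u hu => by
    rw [mem_normalizer_iff]
    refine fun g => ⟨fun hg => h.conj_mem_part hx hxZ hrp hne (hRN hu) hg, fun hg => ?_⟩
    have := h.conj_mem_part hx hxZ hrp hne (inv_mem (hRN hu)) hg
    simpa [mul_assoc] using this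
  have hPR : IsPGroup r (R ⊔ P : Subgroup G) :=
    hR.to_sup_of_normal_right' (h.isPGroup_part hx hxZ hrp hne) hnorm
  set T := (R ⊔ P).map π with hT
  set E := (P.map π).subgroupOf T with hE
  have : E.Normal := normal_subgroupOf_of_le_normalizer <| by
    refine le_trans (map_mono (sup_le hnorm le_normalizer)) ?_
    exact le_normalizer_map π
  have hEne : E ≠ ⊥ := by
    obtain ⟨w, hw, hwZ⟩ := h.exists_mem_part hx hxZ hr
    intro e
    rw [hE, subgroupOf_eq_bot, disjoint_iff_inf_le] at e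
    exact hwZ ((hker w).1 (mem_bot.1 (e ⟨mem_map_of_mem π hw, mem_map_of_mem π (mem_sup_right hw)⟩)))
  obtain ⟨e, he1⟩ := (Subgroup.ne_bot_iff_exists_ne_one.1
    (Fusion.pGroup_inf_center_ne_bot (hPR.map π) E hEne))
  obtain ⟨heE, heC⟩ := mem_inf.1 e.2
  obtain ⟨z₀, hz₀, hz₀e⟩ := heE
  obtain ⟨k, hk⟩ := IsPGroup.iff_orderOf.1 ((h.isPGroup_part hx hxZ hrp hne).map π)
    ⟨π z₀, mem_map_of_mem π hz₀⟩
  rw [Subgroup.orderOf_mk] at hk
  have hk0 : k ≠ 0 := by
    rintro rfl
    rw [pow_zero, orderOf_eq_one_iff] at hk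
    exact he1 (Subtype.ext (Subtype.ext (hz₀e.symm.trans hk)))
  obtain ⟨k, rfl⟩ := Nat.exists_eq_succ_of_ne_zero hk0
  refine ⟨z₀ ^ r ^ k, pow_mem hz₀ _, fun hz => ?_, ?_, fun u hu => ?_⟩
  · have := orderOf_dvd_of_pow_eq_one (x := π z₀) (n := r ^ k) (by rwa [← map_pow, hker])
    rw [hk] at this
    exact absurd ((Nat.pow_dvd_pow_iff_le_right hrp.one_lt).1 this) (by omega)
  · rw [← hker, map_pow, map_pow, ← pow_mul, ← pow_succ, ← hk, pow_orderOf_eq_one]
  · have hc : Commute (π u) (π z₀) := by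
      have := mem_center_iff.1 heC ⟨π u, mem_map_of_mem π (mem_sup_left hu)⟩
      have h2 := congrArg Subtype.val this
      rw [show π z₀ = ((e : T) : G ⧸ center G) from hz₀e]
      exact h2
    rw [← hker, map_mul, map_mul, map_mul, map_inv, map_inv, map_pow, (hc.pow_right _).eq,
      mul_inv_cancel_right, mul_inv_cancel]

/-- A subgroup of the normalizer of `C(x)` meets it in index at most `r`. -/
theorem Hyp2.relIndex_dvd (h : Hyp2 G p m) (hx : Reg p x) (hxZ : x ∉ center G) (hr : r.Prime)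
    (hrp : r ≠ p) {R : Subgroup G} (hR : IsPGroup r R) (hRN : R ≤ normalizer (C[x] : Set G)) :
    (C[x]).relIndex R ∣ r := by
  have := Fact.mk hr
  by_cases hr0 : Pi0 G p r
  swap
  · have hle : R ≤ C[x] := fun g hg => center_le_centralizer _ <| by
      by_contra hgZ
      exact hr0 ⟨hr, hrp, g, pel_of_mem hR hg, hgZ⟩
    rw [relIndex_eq_one.2 hle]
    exact one_dvd r
  obtain ⟨z, hz, hzZ, hzr, hfix⟩ := h.exists_fixed hx hxZ hr0 hR hRN
  have hCz : C[z] = C[x] := h.cent_part hx hxZ hr hrp hz hzZ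
  set K := (C[x]).subgroupOf R with hK
  have : K.Normal := normal_subgroupOf_of_le_normalizer hRN
  have hconj : ∀ u ∈ R, ∃ c ∈ center G, u * z * u⁻¹ = c * z := fun u hu =>
    ⟨_, hfix u hu, by group⟩
  have hexp : ∀ u : R ⧸ K, u ^ r = 1 := by
    intro u
    obtain ⟨⟨u, hu⟩, rfl⟩ := QuotientGroup.mk_surjective u
    rw [← QuotientGroup.mk_pow, QuotientGroup.eq_one_iff, hK, mem_subgroupOf, coe_pow, ← hCz,
      mem_cent]
    obtain ⟨c, hc, huc⟩ := hconj u hu
    have hit : ∀ k : ℕ, u ^ k * z * (u ^ k)⁻¹ = c ^ k * z := by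
      intro k
      induction k with
      | zero => simp
      | succ k ih =>
        calc u ^ (k + 1) * z * (u ^ (k + 1))⁻¹ = u * (u ^ k * z * (u ^ k)⁻¹) * u⁻¹ := by
              rw [pow_succ']; group
          _ = u * (c ^ k * z) * u⁻¹ := by rw [ih]
          _ = c ^ k * (u * z * u⁻¹) := by
              rw [← mul_assoc u, mem_center_iff.1 (pow_mem hc k) u]; group
          _ = c ^ (k + 1) * z := by rw [huc, pow_succ, mul_assoc]
    have hcr : c ^ r = 1 := by
      have h1 : (u * z * u⁻¹) ^ r = z ^ r := by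
        rw [conj_pow, mem_center_iff.1 hzr u, mul_inv_cancel_right]
      rwa [huc, (show Commute c z from (mem_center_iff.1 hc z).symm).mul_pow, mul_eq_right] at h1
    have h2 := hit r
    rw [hcr, one_mul] at h2
    exact mul_inv_eq_iff_eq_mul.1 h2
  have hcomm : ∀ a b : R ⧸ K, Commute a b := by
    intro a b
    obtain ⟨⟨a, ha⟩, rfl⟩ := QuotientGroup.mk_surjective a
    obtain ⟨⟨b, hb⟩, rfl⟩ := QuotientGroup.mk_surjective b
    obtain ⟨c, hc, hac⟩ := hconj a ha
    obtain ⟨d, hd, hbd⟩ := hconj b hb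
    show ((_ : R) : R ⧸ K) = ((_ : R) : R ⧸ K)
    rw [QuotientGroup.eq, hK, mem_subgroupOf, ← hCz, mem_cent]
    push_cast
    have h1 : a * b * z * (a * b)⁻¹ = d * (c * z) := by
      calc a * b * z * (a * b)⁻¹ = a * (b * z * b⁻¹) * a⁻¹ := by group
        _ = a * (d * z) * a⁻¹ := by rw [hbd]
        _ = d * (a * z * a⁻¹) := by rw [← mul_assoc a, mem_center_iff.1 hd a]; group
        _ = _ := by rw [hac]
    have h2 : b * a * z * (b * a)⁻¹ = c * (d * z) := by
      calc b * a * z * (b * a)⁻¹ = b * (a * z * a⁻¹) * b⁻¹ := by group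
        _ = b * (c * z) * b⁻¹ := by rw [hac]
        _ = c * (b * z * b⁻¹) := by rw [← mul_assoc b, mem_center_iff.1 hc b]; group
        _ = _ := by rw [hbd]
    rw [← mul_assoc d, mem_center_iff.1 hc d, mul_assoc c, ← h2] at h1
    calc (a * b)⁻¹ * (b * a) * z = (a * b)⁻¹ * (b * a * z * (b * a)⁻¹) * (b * a) := by group
      _ = (a * b)⁻¹ * (a * b * z * (a * b)⁻¹) * (b * a) := by rw [h1]
      _ = z * ((a * b)⁻¹ * (b * a)) := by group
  obtain ⟨k, hk⟩ := IsPGroup.iff_card.1 (hR.to_quotient K)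
  rw [relIndex, index_eq_card, ← hK, hk]
  by_contra hbig
  have hk2 : 2 ≤ k := by
    by_contra hk2
    interval_cases k <;> simp at hbig
  have : Nontrivial (R ⧸ K) := Finite.one_lt_card_iff_nontrivial.1
    (hk ▸ Nat.one_lt_pow (by omega) hr.one_lt)
  obtain ⟨U, hU⟩ := exists_ne (1 : R ⧸ K)
  have hoU : orderOf U = r := orderOf_eq_prime (hexp U) hU
  obtain ⟨V, hV⟩ : ∃ V, V ∉ zpowers U := by
    by_contra hall
    push Not at hall
    have h1 : Nat.card (zpowers U) = Nat.card (R ⧸ K) := by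
      rw [(eq_top_iff' _).2 hall]
      exact Nat.card_congr (Equiv.Set.univ _)
    rw [Nat.card_zpowers, hoU, hk] at h1
    exact absurd (Nat.pow_right_injective hr.two_le ((pow_one r).trans h1)) (by omega)
  have hV1 : V ≠ 1 := fun e => hV (e ▸ one_mem _)
  have hUV : ∀ j : ℕ, U * V ^ j ≠ 1 := by
    intro j e
    have hUmem : U ∈ zpowers V := by
      rw [mul_eq_one_iff_eq_inv.1 e]
      exact inv_mem (npow_mem_zpowers V j)
    refine hV ((eq_of_le_of_card_ge (zpowers_le.2 hUmem) ?_).ge (mem_zpowers V))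
    rw [Nat.card_zpowers, Nat.card_zpowers, hoU, orderOf_eq_prime (hexp V) hV1]
  obtain ⟨q, hqr, hq⟩ := h.two r
  set A := part q x with hA
  have hRA : R ≤ normalizer (A : Set G) := fun u hu => by
    rw [mem_normalizer_iff]
    refine fun g => ⟨fun hg => h.conj_mem_part hx hxZ hq.1 hq.2.1 (hRN hu) hg, fun hg => ?_⟩
    have := h.conj_mem_part hx hxZ hq.1 hq.2.1 (inv_mem (hRN hu)) hg
    simpa [mul_assoc] using this
  have hAc : IsMulCommutative A := ⟨⟨fun a b => Subtype.ext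
    (h.commute_part hx hxZ hq.1 hq.2.1 a.2 (h.part_le hx hxZ hq.1 hq.2.1 b.2)).eq⟩⟩
  let ρ₀ : R →* MulAut A := (A.normalizerMonoidHom).comp (inclusion hRA)
  have hρ₀ : ∀ (g : R) (a : A), ((ρ₀ g a : A) : G) = g * a * (g : G)⁻¹ := fun g a => rfl
  let ρ : R ⧸ K →* MulAut A := QuotientGroup.lift K ρ₀ fun g hg => by
    refine MulEquiv.ext fun a => Subtype.ext ?_
    rw [hρ₀]
    rw [hK, mem_subgroupOf] at hg
    show (g : G) * a * (g : G)⁻¹ = a
    rw [← (h.commute_part hx hxZ hq.1 hq.2.1 a.2 hg).eq, mul_inv_cancel_right]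
  have hρ : ∀ (g : R) (a : A), ((ρ g a : A) : G) = g * a * (g : G)⁻¹ := hρ₀
  have hfixed : ∀ g : R ⧸ K, g ≠ 1 → ∀ a : A, ρ g a = a → a ∈ (center G).subgroupOf A := by
    intro g hg a ha
    obtain ⟨g, rfl⟩ := QuotientGroup.mk_surjective g
    have h1 : (g : G) * a * (g : G)⁻¹ = a := (hρ g a).symm.trans (congrArg Subtype.val ha)
    rw [mem_subgroupOf]
    have ha' := (h.mem_part hx hxZ hq.1 hq.2.1).1 a.2
    refine h.central_of_mem_two hx hxZ ((pel_of_mem hR g.2).reg hr h.prime hrp) (fun hgC => hg ?_)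
      (ha'.2.reg hq.1 h.prime hq.2.1) ha'.1 (mem_cent.2 ?_)
    · rw [QuotientGroup.eq_one_iff, hK, mem_subgroupOf]; exact hgC
    · exact (mul_inv_eq_iff_eq_mul.1 h1).symm
  have hZfix : ∀ g : R ⧸ K, ∀ a ∈ (center G).subgroupOf A, ρ g a = a := by
    intro g a ha
    obtain ⟨g, rfl⟩ := QuotientGroup.mk_surjective g
    refine Subtype.ext ?_
    rw [hρ, mem_center_iff.1 (mem_subgroupOf.1 ha) g, mul_inv_cancel_right]
  obtain ⟨w, hw, hwZ⟩ := h.exists_mem_part hx hxZ hq
  let _ : CommGroup A := { (inferInstance : Group A) with mul_comm := hAc.is_comm.comm }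
  have hwr := pow_mem_of_fixed ρ ((center G).subgroupOf A) hZfix (hcomm U V) (hexp U) (hexp V)
    (fun j => hfixed _ (hUV j)) (hfixed V hV1) ⟨w, hw⟩
  obtain ⟨i, hi⟩ := ((h.mem_part hx hxZ hq.1 hq.2.1).1 hw).2
  obtain ⟨j, hj⟩ := exists_pow_eq_self_of_coprime (x := w) (n := r)
    ((((Nat.coprime_primes hr hq.1).2 (Ne.symm hqr)).pow_right i).coprime_dvd_right hi)
  exact hwZ (hj ▸ pow_mem (mem_subgroupOf.1 hwr) j)

end Cfsg.Agent.TwoRegSizes
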